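import Groth.Agent.L12.RR.KOps
import Groth.Agent.L12.KBun.Segre

/-!
# Splitting a bundle together with its dual
-/

set_option autoImplicit false
set_option maxHeartbeats 400000
set_option linter.style.haveILetI false
set_option linter.unusedSectionVars false
set_option backward.isDefEq.respectTransparency false
set_option backward.isDefEq.respectTransparency.types false

universe u

open CategoryTheory CategoryTheory.Limits AlgebraicGeometry

noncomputable section

namespace Groth.L12.RR.GRR

open Groth.L12.Kvb (KR toKR)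
open Groth.L12.KBunQ
open Groth.L00.Tensor (tensorComm)

variable {X : Scheme.{u}}

local notation "Dl" => RefHull.dual

/-- The dual of a line is its inverse. -/
theorem kc_dual_mul {M : X.Modules} (hM : FlatMod.IsFinLocFreeOfRank 1 M) : kc X (Dl M) * kc X M = 1 := by
  have hi := Groth.L22.GenRank.isInvertible_of_rank_one hM
  obtain ⟨M', hM', ⟨e⟩⟩ := Groth.L08.Cube.exists_inverse hi
  obtain ⟨d⟩ := Groth.L22.Adjunction.nonempty_dual_iso hi e
  rw [kc_iso d (Groth.L12.DualVb.isFinLocFree_dual (Groth.L18.KRRAmple.isFinLocFree_of_rank hM))]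
  exact kc_inverse hM' hi ⟨tensorComm _ _ ≪≫ e⟩

/-- The splitting principle for a bundle and its dual, by a pullback. -/
theorem exists_split_dual : ∀ (m : ℕ) (X : Scheme.{u}) [CompactSpace X] (E : X.Modules),
    FlatMod.IsFinLocFreeOfRank m E → ∃ (X' : Scheme.{u}) (_ : CompactSpace X') (f : X' ⟶ X) (g : KR X →+* KR X'),
      (∀ M, FlatMod.IsFinLocFree M → g (kc X M) = kc X' ((Scheme.Modules.pullback f).obj M)) ∧
      Function.Injective g ∧ ∃ Ms : Multiset X'.Modules, Multiset.card Ms = m ∧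
        (∀ M ∈ Ms, FlatMod.IsFinLocFreeOfRank 1 M) ∧ g (kc X E) = (Ms.map (kc X')).sum ∧
        g (kc X (Dl E)) = (Ms.map fun M => kc X' (Dl M)).sum := by
  intro m
  induction m with
  | zero =>
    intro X _ E hE
    refine ⟨X, inferInstance, 𝟙 X, RingHom.id _, fun M hM => ?_, Function.injective_id, 0, rfl, by simp, ?_, ?_⟩
    · exact kc_iso ((Scheme.Modules.pullbackId X).app M).symm hM
    · rw [RingHom.id_apply, kc_zero (Groth.L12.Kvb.isZero_of_rank_zero hE)]; simp
    · rw [RingHom.id_apply, kc_zero (Groth.L12.Kvb.isZero_of_rank_zero (Groth.L12.KBun.rank_dual hE))]; simp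
  | succ m ih =>
    intro X _ E hE
    haveI := Groth.L29.DC.PCQCoh.isQCoh_of_isFinLocFree (Groth.L18.KRRAmple.isFinLocFree_of_rank hE)
    obtain ⟨P, π, O1, q, hG⟩ := Groth.L18.QuotExist.exists_isGrass E 1
    have hP := hG.isProjBundle
    obtain ⟨A⟩ := Groth.L12.KBun.exists_atlas hP hE
    haveI : IsProper π := A.isProper
    haveI : CompactSpace P := QuasiCompact.compactSpace_of_compactSpace π
    have hO := Groth.L22.GenRank.isInvertible_of_rank_one hP.invertible
    obtain ⟨L, hL, ⟨eL⟩⟩ := Groth.L08.Cube.exists_inverse hO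
    have D : Setup π q L m :=
      ⟨hP.epi, hP.invertible, hE, hL, ⟨tensorComm L O1 ≪≫ eL⟩⟩
    haveI := Groth.L29.DC.PCQCoh.isQCoh_of_isFinLocFree (Groth.L18.KRRAmple.isFinLocFree_of_rank hP.invertible)
    haveI := Groth.L29.DC.PCQCoh.isQCoh_of_isFinLocFree D.vbW
    obtain ⟨g, hg⟩ := exists_pull π
    have hinj : Function.Injective g := by
      intro a b hab
      have hb := (D.bijective_combInv A g hg).1 (a₁ := Pi.single 0 a) (a₂ := Pi.single 0 b) ?_
      · simpa using congrFun hb 0
      rw [Setup.combInv_apply, Setup.combInv_apply, Finset.sum_eq_single (0 : Fin (m + 1)),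
        Finset.sum_eq_single (0 : Fin (m + 1))]
      · simp only [Pi.single_eq_same, hab]
      all_goals first
        | exact fun h => absurd (Finset.mem_univ _) h
        | exact fun j _ hj => by rw [Pi.single_eq_of_ne hj, map_zero, zero_mul]
    obtain ⟨X', _, f', g', hg', hinj', Ms, hcard, hrk, hsum, hsum'⟩ :=
      ih P (Groth.L12.KBun.tautSC q).X₁ (rank_taut hP.epi hP.invertible hE)
    have hOv := Groth.L18.KRRAmple.isFinLocFree_of_rank hP.invertible
    refine ⟨X', inferInstance, f' ≫ π, g'.comp g, fun M hM => ?_, hinj'.comp hinj,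
      ((Scheme.Modules.pullback f').obj O1) ::ₘ Ms, by rw [Multiset.card_cons, hcard], ?_, ?_, ?_⟩
    · rw [RingHom.comp_apply, hg M hM, hg' _ (Groth.L29.LocFree.pullback π hM)]
      exact kc_iso ((Scheme.Modules.pullbackComp f' π).app M)
        (Groth.L29.LocFree.pullback f' (Groth.L29.LocFree.pullback π hM))
    · intro M hM
      rcases Multiset.mem_cons.1 hM with rfl | hM
      · exact Groth.L18.KRRAmple.isRankOne_of_isInvertible (Groth.L18.Ample.isInvertible_pullback f' hO)
      · exact hrk M hM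
    · rw [RingHom.comp_apply, hg E D.vbE]
      have hkc : kc P ((Scheme.Modules.pullback π).obj E) = kc P (Groth.L12.KBun.tautSC q).X₁ + kc P O1 :=
        kc_shortExact (shortExact_tautSC hP.epi) D.vbW (Groth.L29.LocFree.pullback π D.vbE) hOv
      rw [hkc, map_add, hsum, hg' O1 hOv, Multiset.map_cons, Multiset.sum_cons, add_comm]
    · have hd := Groth.L12.DualVb.isFinLocFree_dual D.vbE
      obtain ⟨p⟩ := Groth.L12.DualVb.nonempty_dual_pullback π D.vbE
      obtain ⟨T, hT, ⟨t₁⟩, ⟨t₂⟩, ⟨t₃⟩⟩ := Groth.L12.DualVb.exists_dual_shortExact (shortExact_tautSC hP.epi)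
        D.vbW (Groth.L29.LocFree.pullback π D.vbE) hOv
      have d₁ := Groth.L12.DualVb.isFinLocFree_dual hOv
      have d₃ := Groth.L12.DualVb.isFinLocFree_dual D.vbW
      have v₁ : FlatMod.IsFinLocFree T.X₁ := Groth.L29.LocFree.of_iso t₁.symm d₁
      have v₂ : FlatMod.IsFinLocFree T.X₂ := Groth.L29.LocFree.of_iso (t₂ ≪≫ p).symm (Groth.L29.LocFree.pullback π hd)
      have v₃ : FlatMod.IsFinLocFree T.X₃ := Groth.L29.LocFree.of_iso t₃.symm d₃
      have e₁ : kc P T.X₁ = kc P (Dl O1) := kc_iso t₁ v₁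
      have e₃ : kc P T.X₃ = kc P (Dl (Groth.L12.KBun.tautSC q).X₁) := kc_iso t₃ v₃
      obtain ⟨p'⟩ := Groth.L12.DualVb.nonempty_dual_pullback f' hOv
      rw [RingHom.comp_apply, hg _ hd, ← kc_iso (t₂ ≪≫ p) v₂, kc_shortExact hT v₁ v₂ v₃, e₁, e₃, map_add, hsum',
        hg' _ d₁, ← kc_iso p' (Groth.L12.DualVb.isFinLocFree_dual (Groth.L29.LocFree.pullback f' hOv)),
        Multiset.map_cons, Multiset.sum_cons]

end Groth.L12.RR.GRR
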