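import Groth.Agent.L12.RR.GRR.Adams
import Groth.Agent.S3785

/-!
# Grothendieck–Riemann–Roch in the rings of bundles
-/

set_option autoImplicit false
set_option maxHeartbeats 800000
set_option linter.style.haveILetI false
set_option linter.unusedSectionVars false
set_option backward.isDefEq.respectTransparency false
set_option backward.isDefEq.respectTransparency.types false

universe v u

open CategoryTheory CategoryTheory.Limits AlgebraicGeometry TopologicalSpace LambdaRing TensorProduct LaurentPolynomial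

attribute [local instance] HasDerivedCategory.standard

noncomputable section

namespace Groth.L12.RR.GRR

open Groth.L12.Kvb (KR toKR augHom posStructure)
open Groth.L12.KBunQ (kc)
open Groth.L15.ChernChar (proj Eig Psi D G cls mem_rees)
open Groth.L08.Lambda (ratFil)
open Eigen (W Wt mem_Wt)

variable {X Y : Scheme.{u}}

section GrK

variable {K : Type v} [CommRing K] [LambdaOps K] (P : PosStructure K)

/-- The value of `grK` does not depend on the admissible multiple. -/
theorem grK_eq_of (n : ℤ) (x : K) {N : ℕ} (hN : 1 ≤ N) (hx : C ((N : K) * x) * T (-n) ∈ KGr.rees P) :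
    KGr.grK P n x = ((1 : ℚ) / (N : ℚ)) ⊗ₜ[ℤ]
      Ideal.Quotient.mk (Ideal.span {KGr.tGen P}) (⟨C ((N : K) * x) * T (-n), hx⟩ : KGr.rees P) := by
  have h : ∃ N : ℕ, 1 ≤ N ∧ C ((N : K) * x) * T (-n) ∈ KGr.rees P := ⟨N, hN, hx⟩
  rw [KGr.grK, dif_pos h]
  have hM : (h.choose : ℚ) ≠ 0 := by
    have := h.choose_spec.1
    exact_mod_cast (show h.choose ≠ 0 by omega)
  have hN' : (N : ℚ) ≠ 0 := by exact_mod_cast (show N ≠ 0 by omega)
  have e : (N : ℤ) • Ideal.Quotient.mk (Ideal.span {KGr.tGen P})
      (⟨C ((h.choose : K) * x) * T (-n), h.choose_spec.2⟩ : KGr.rees P) =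
      (h.choose : ℤ) • Ideal.Quotient.mk (Ideal.span {KGr.tGen P})
        (⟨C ((N : K) * x) * T (-n), hx⟩ : KGr.rees P) := by
    rw [← map_zsmul, ← map_zsmul]
    congr 1
    refine Subtype.ext ?_
    show (N : ℤ) • (C ((h.choose : K) * x) * T (-n)) = (h.choose : ℤ) • (C ((N : K) * x) * T (-n))
    simp only [zsmul_eq_mul, Int.cast_natCast, map_mul, map_natCast]
    ring
  calc _ = ((1 : ℚ) / (h.choose : ℚ) / (N : ℚ)) ⊗ₜ[ℤ] ((N : ℤ) • Ideal.Quotient.mk (Ideal.span {KGr.tGen P})
      (⟨C ((h.choose : K) * x) * T (-n), h.choose_spec.2⟩ : KGr.rees P)) := by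
        rw [← TensorProduct.smul_tmul, zsmul_eq_mul, Int.cast_natCast, mul_comm (N : ℚ), div_mul_cancel₀ _ hN']
    _ = _ := by
        rw [e, ← TensorProduct.smul_tmul, zsmul_eq_mul, Int.cast_natCast]
        congr 1
        field_simp

/-- Classes in negative degree vanish. -/
theorem grK_neg {n : ℤ} (hn : n < 0) (x : K) : KGr.grK P n x = 0 := by
  have hx : ((1 : ℕ) : K) * x ∈ gammaFiltration P (-(-n)).toNat := by
    rw [show (-(-n)).toNat = 0 by omega]; simp [gammaFiltration]
  rw [grK_eq_of P n x le_rfl (mem_rees P hx)]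
  have := Groth.L15.ChernChar.cls_pos P (-n) _ hx (by omega)
  rw [cls] at this
  rw [this, TensorProduct.tmul_zero]

end GrK

section RatFil

variable [ConnectedSpace ↥X]

theorem nilpotent_mem_ratFil {z : KQ X} (hz : IsNilpotent z) : z ∈ ratFil (posStructure (X := X)) 1 := by
  obtain ⟨N, x, hN, hx⟩ := exists_incl z
  obtain ⟨m, hm⟩ := hz
  have h0 : incl (x ^ m) = 0 := by rw [map_pow, ← hx, mul_pow, hm, mul_zero]
  obtain ⟨M, hM, hMx⟩ := torsion_of_incl_eq_zero h0
  have haug : augHom x = 0 := by
    have h1 := congrArg augHom hMx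
    rw [map_mul, map_natCast, map_pow, map_zero] at h1
    rcases mul_eq_zero.1 h1 with h | h
    · exact absurd (Nat.cast_eq_zero.1 h) (by omega)
    · exact (pow_eq_zero_iff').1 h |>.1
  have hF : x ∈ gammaFiltration (posStructure (X := X)) 1 := by
    simpa [Groth.L08.Lambda.gamma_one] using Groth.L15.ChernChar.gamma_mem posStructure
      (show (posStructure (X := X)).aug x = 0 from haug) 1
  have hz' : z = (1 / (N : ℚ)) • incl x := by
    rw [← hx, ← nsmul_eq_mul, ← Nat.cast_smul_eq_nsmul ℚ, smul_smul,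
      one_div_mul_cancel (by exact_mod_cast (show N ≠ 0 by omega)), one_smul]
  rw [hz']
  exact Submodule.smul_mem _ _ (Groth.L15.ChernChar.tmul_mem posStructure hF)

end RatFil

section Main

variable [CompactSpace X] [CompactSpace Y] [ConnectedSpace ↥X] [ConnectedSpace ↥Y]
  (hSX : HasSplitting (KR X) posStructure) {dX : ℕ} (hdX : gammaFiltration (posStructure (X := X)) (dX + 1) = ⊥)
  (hSY : HasSplitting (KR Y) posStructure) {dY : ℕ} (hdY : gammaFiltration (posStructure (X := Y)) (dY + 1) = ⊥)
  (h : KR X →+ KR Y) {c n : ℕ}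
  (hshift : ∀ (k : ℕ) (x : KR X), x ∈ gammaFiltration (posStructure (X := X)) k →
    ∃ N : ℕ, 1 ≤ N ∧ (N : KR Y) * h x ∈ gammaFiltration (posStructure (X := Y)) (k + c - n))

include hshift in
theorem mapQ_ratFil {k : ℕ} {z : KQ X} (hz : z ∈ ratFil (posStructure (X := X)) k) :
    mapQ h z ∈ ratFil (posStructure (X := Y)) (k + c - n) := by
  induction hz using Submodule.span_induction with
  | mem w hw =>
    obtain ⟨x, hx, rfl⟩ := hw
    obtain ⟨N, hN, hmem⟩ := hshift k x hx
    show mapQ h (incl x) ∈ _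
    have e : mapQ h (incl x) = (1 / (N : ℚ)) • incl ((N : KR Y) * h x) := by
      rw [mapQ_incl, map_mul, map_natCast, ← nsmul_eq_mul, ← Nat.cast_smul_eq_nsmul ℚ, smul_smul,
        one_div_mul_cancel (by exact_mod_cast (show N ≠ 0 by omega)), one_smul]
    rw [e]
    exact Submodule.smul_mem _ _ (Groth.L15.ChernChar.tmul_mem posStructure hmem)
  | zero => rw [map_zero]; exact zero_mem _
  | add a b _ _ ha hb => rw [map_add]; exact add_mem ha hb
  | smul q a _ ha => rw [map_smul]; exact Submodule.smul_mem _ q ha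

/-- The graded map, on eigen decompositions. -/
def gradedMap (c n dX dY : ℕ) : KQ X →ₗ[ℚ] KQ Y :=
  ∑ k ∈ Finset.range (dX + 1),
    if n ≤ k + c then (proj posStructure hSY dY (k + c - n)).comp ((mapQ h).comp (proj posStructure hSX dX k))
    else 0

include hdX hdY hshift in
theorem gradedMap_proj {m : ℕ} {y : KQ X} (hy : y ∈ ratFil (posStructure (X := X)) m) :
    gradedMap hSX hSY h c n dX dY (proj posStructure hSX dX m y) =
      if n ≤ m + c then proj posStructure hSY dY (m + c - n) (mapQ h y) else 0 := by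
  set e := proj posStructure hSX dX m y with he
  have hee : ∀ k, proj posStructure hSX dX k e = if m = k then e else 0 :=
    Groth.L15.ChernChar.proj_eig posStructure hSX hdX (Groth.L15.ChernChar.proj_mem posStructure hSX hdX m y)
  have hterm : ∀ k : ℕ, (if n ≤ k + c then
      (proj posStructure hSY dY (k + c - n)).comp ((mapQ h).comp (proj posStructure hSX dX k)) else 0) e =
      if m = k then (if n ≤ m + c then proj posStructure hSY dY (m + c - n) (mapQ h e) else 0) else 0 := by
    intro k
    rcases eq_or_ne m k with rfl | hk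
    · rw [if_pos rfl]
      split_ifs with hn
      · rw [LinearMap.comp_apply, LinearMap.comp_apply, hee, if_pos rfl]
      · rfl
    · rw [if_neg hk]
      split_ifs with hn
      · rw [LinearMap.comp_apply, LinearMap.comp_apply, hee, if_neg hk, map_zero, map_zero]
      · rfl
  rw [gradedMap, LinearMap.sum_apply, Finset.sum_congr rfl fun k _ => hterm k, Finset.sum_ite_eq]
  have hdiff : n ≤ m + c → proj posStructure hSY dY (m + c - n) (mapQ h e) =
      proj posStructure hSY dY (m + c - n) (mapQ h y) := fun hn => by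
    have h1 := mapQ_ratFil h hshift (Groth.L15.ChernChar.proj_sub_mem posStructure hSX hdX hy).1
    have h2 := (Groth.L15.ChernChar.proj_sub_mem posStructure hSY hdY h1).2 (m + c - n) (by omega)
    rwa [map_sub, map_sub, sub_eq_zero] at h2
  by_cases hn : n ≤ m + c
  · rw [if_pos hn, if_pos hn]
    split_ifs with hm
    · exact hdiff hn
    · have h0 : e = 0 := by rw [he, proj, if_neg (by simpa using hm), LinearMap.zero_apply]
      rw [← hdiff hn, h0, map_zero, map_zero]
  · rw [if_neg hn, if_neg hn, ite_self]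

variable {θC θP : KR X} {τ w : KQ X} (hτn : IsNilpotent (τ - 1))
  (hτ : psiQ τ * incl θP * 2 ^ c = incl θC * τ * 2 ^ (n + 1)) (hw : w * incl θP = 1)
  (hA : ∀ z : KQ X, psiQ (mapQ h z) = mapQ h (2 * incl θC * psiQ z * w))

include hdX hdY hshift hτn hτ hw hA in
theorem mapQ_inv_mul_eig {σ : KQ X} (hσ : σ * τ = 1) {k : ℕ} {e : KQ X} (he : e ∈ Eig posStructure hSX k) :
    mapQ h (σ * e) = if n ≤ k + c then proj posStructure hSY dY (k + c - n) (mapQ h e) else 0 := by
  set z := mapQ h (σ * e) with hz
  have hψe : psiQ e = 2 ^ k * e := by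
    have := mem_Wt.1 ((mem_Eig_iff hSX).1 he)
    rwa [Nat.cast_ofNat] at this
  have hψσ : psiQ σ * psiQ τ = 1 := by rw [← map_mul, hσ, map_one]
  have hkey : incl θC * psiQ σ * w * 2 ^ (n + 1) = 2 ^ c * σ := by
    linear_combination (-(psiQ σ * σ * w)) * hτ + (psiQ τ * psiQ σ * σ * 2 ^ c) * hw +
      (σ * 2 ^ c) * hψσ - (incl θC * psiQ σ * w * 2 ^ (n + 1)) * hσ
  have hnat : ∀ (M : ℕ) (p : KQ X), mapQ h ((M : KQ X) * p) = (M : KQ Y) * mapQ h p := mapQ_natCast_mul h
  have hψz : ((2 ^ n : ℕ) : KQ Y) * psiQ z = ((2 ^ (k + c) : ℕ) : KQ Y) * z := by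
    rw [hz, hA, ← hnat, ← hnat, map_mul (psiQ (X := X)), hψe]
    refine congrArg _ ?_
    push_cast
    linear_combination (2 ^ k * e) * hkey
  have hproj : ∀ m, m ≠ k + c - n ∨ ¬ n ≤ k + c → proj posStructure hSY dY m z = 0 := by
    intro m hm
    have h1 := congrArg (proj posStructure hSY dY m) hψz
    rw [← nsmul_eq_mul, ← nsmul_eq_mul, map_nsmul, map_nsmul, ← Psi_eq hSY,
      show proj posStructure hSY dY m (Psi posStructure hSY z) = (2 : ℚ) ^ m • proj posStructure hSY dY m z from ?_,
      ← Nat.cast_smul_eq_nsmul ℚ, ← Nat.cast_smul_eq_nsmul ℚ, smul_smul, ← sub_eq_zero, ← sub_smul,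
      smul_eq_zero] at h1
    · refine h1.resolve_left fun e0 => ?_
      rw [sub_eq_zero] at e0
      push_cast at e0
      rw [← pow_add] at e0
      have e' : (2 : ℕ) ^ (n + m) = 2 ^ (k + c) := by exact_mod_cast e0
      have := Nat.pow_right_injective le_rfl e'
      omega
    · refine Groth.L15.ChernChar.eig_induction posStructure hSY hdY z (by simp)
        (fun a b ha hb => by rw [map_add, map_add, ha, hb, map_add, smul_add]) fun i a ha => ?_
      have hP : Psi posStructure hSY a = (2 : ℚ) ^ i • a := by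
        rw [Eig, Module.End.mem_eigenspace_iff] at ha
        exact ha
      rw [hP, map_smul, Groth.L15.ChernChar.proj_eig posStructure hSY hdY ha]
      split_ifs with h'
      · rw [h']
      · rw [smul_zero, smul_zero]
  rw [← Groth.L15.ChernChar.sum_proj posStructure hSY hdY z]
  by_cases hn : n ≤ k + c
  · rw [if_pos hn, Finset.sum_eq_single (k + c - n) (fun m _ hm => hproj m (Or.inl hm))
      (fun hm => by rw [proj, if_neg (by simpa using hm), LinearMap.zero_apply])]
    have hσ1 : (σ - 1) * e ∈ ratFil (posStructure (X := X)) (1 + k) :=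
      Groth.L15.ChernChar.ratFil_mul posStructure (nilpotent_mem_ratFil (by
          rw [show σ - 1 = -σ * (τ - 1) by linear_combination hσ]
          exact (Commute.all _ _).isNilpotent_mul_left hτn))
        ((Groth.L15.ChernChar.fil posStructure hSX hdX).eigenspace_le k he)
    have h2 := (Groth.L15.ChernChar.proj_sub_mem posStructure hSY hdY (mapQ_ratFil h hshift hσ1)).2
      (k + c - n) (by omega)
    rwa [sub_mul, one_mul, map_sub, map_sub, sub_eq_zero] at h2
  · rw [if_neg hn]
    exact Finset.sum_eq_zero fun m _ => hproj m (Or.inr hn)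

include hdX hdY hshift hτn hτ hw hA in
theorem gradedMap_mul (x : KQ X) : gradedMap hSX hSY h c n dX dY (τ * x) = mapQ h x := by
  obtain ⟨u, hu⟩ : IsUnit τ := by simpa using hτn.isUnit_one_add
  set σ : KQ X := (↑u⁻¹ : KQ X) with hσdef
  have hσ : σ * τ = 1 := by rw [← hu]; exact u.inv_mul
  have h1 : ∀ k : ℕ, mapQ h (σ * proj posStructure hSX dX k (τ * x)) =
      if n ≤ k + c then proj posStructure hSY dY (k + c - n) (mapQ h (proj posStructure hSX dX k (τ * x))) else 0 :=
    fun k => mapQ_inv_mul_eig hSX hdX hSY hdY h hshift hτn hτ hw hA hσ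
      (Groth.L15.ChernChar.proj_mem posStructure hSX hdX k _)
  conv_rhs => rw [show x = σ * (τ * x) by rw [← mul_assoc, hσ, one_mul]]
  conv_rhs => rw [← Groth.L15.ChernChar.sum_proj posStructure hSX hdX (τ * x), Finset.mul_sum, map_sum]
  rw [gradedMap, LinearMap.sum_apply]
  refine Finset.sum_congr rfl fun k _ => ?_
  rw [h1]
  split_ifs <;> rfl

/-- The map induced on the graded rings. -/
def fG : KGr.Gr (posStructure (X := X)) →+ KGr.Gr (posStructure (X := Y)) :=
  (((G posStructure hSY hdY).comp (gradedMap hSX hSY h c n dX dY)).comp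
    (D posStructure hSX hdX).toLinearMap).toAddMonoidHom

theorem D_fG (q : KGr.Gr (posStructure (X := X))) :
    D posStructure hSY hdY (fG hSX hdX hSY hdY h (c := c) (n := n) q) =
      gradedMap hSX hSY h c n dX dY (D posStructure hSX hdX q) := by
  show D posStructure hSY hdY (G posStructure hSY hdY (gradedMap hSX hSY h c n dX dY (D posStructure hSX hdX q))) = _
  generalize gradedMap hSX hSY h c n dX dY (D posStructure hSX hdX q) = y
  obtain ⟨w, rfl⟩ := (Groth.L15.ChernChar.D_bijective posStructure hSY hdY).2 y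
  rw [Groth.L15.ChernChar.G_D]

theorem D_grK (m : ℕ) (x : KR X) (hx : ∃ N : ℕ, 1 ≤ N ∧ (N : KR X) * x ∈ gammaFiltration posStructure m) :
    D posStructure hSX hdX (KGr.grK posStructure (m : ℤ) x) = proj posStructure hSX dX m (incl x) := by
  obtain ⟨N, hN, hmem⟩ := hx
  have hmem' : (N : KR X) * x ∈ gammaFiltration (posStructure (X := X)) (-(-(m : ℤ))).toNat := by simpa using hmem
  rw [grK_eq_of posStructure (m : ℤ) x hN (mem_rees posStructure hmem'), Groth.L15.ChernChar.D_tmul]
  have := Groth.L15.ChernChar.DZ_cls posStructure hSX hdX (-(m : ℤ)) _ hmem'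
  rw [cls] at this
  rw [this, if_pos (by omega), show (-(-(m : ℤ))).toNat = m by omega, ← incl_apply, map_mul, map_natCast,
    ← nsmul_eq_mul, map_nsmul, ← Nat.cast_smul_eq_nsmul ℚ, smul_smul,
    one_div_mul_cancel (by exact_mod_cast (show N ≠ 0 by omega)), one_smul]

include hshift in
theorem isGrPush_fG : KGr.IsGrPush (posStructure (X := X)) (posStructure (X := Y)) h ((c : ℤ) - n)
    (fG hSX hdX hSY hdY h (c := c) (n := n)) := by
  intro m x hx
  refine (Groth.L15.ChernChar.D_bijective posStructure hSY hdY).1 ?_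
  rw [D_fG, D_grK hSX hdX m x ⟨1, le_rfl, by rwa [Nat.cast_one, one_mul]⟩,
    gradedMap_proj hSX hdX hSY hdY h hshift (incl_apply x ▸ Groth.L15.ChernChar.tmul_mem posStructure hx), mapQ_incl]
  split_ifs with hn
  · rw [show (m : ℤ) + ((c : ℤ) - n) = ((m + c - n : ℕ) : ℤ) by omega, D_grK hSY hdY _ _ (hshift m x hx)]
  · rw [grK_neg _ (by omega), map_zero]

include hshift hw hA in
theorem fG_chK {T : KR X} (hT : IsNilpotent (D posStructure hSX hdX (KGr.tdK posStructure dX T) - 1))
    (hT' : psiQ (D posStructure hSX hdX (KGr.tdK posStructure dX T)) * incl θP * 2 ^ c =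
      incl θC * D posStructure hSX hdX (KGr.tdK posStructure dX T) * 2 ^ (n + 1)) (x : KR X) :
    KGr.chK posStructure dY (h x) =
      fG hSX hdX hSY hdY h (c := c) (n := n) (KGr.tdK posStructure dX T * KGr.chK posStructure dX x) := by
  refine (Groth.L15.ChernChar.D_bijective posStructure hSY hdY).1 ?_
  rw [D_fG, map_mul, Groth.L15.ChernChar.D_chK, Groth.L15.ChernChar.D_chK, ← incl_apply, ← incl_apply,
    gradedMap_mul hSX hdX hSY hdY h hshift hT hT' hw hA, mapQ_incl]

end Main

/-- The rings of bundles of a Noetherian scheme have the splitting property. -/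
theorem hasSplitting_KR (X : Scheme.{u}) [IsNoetherian X] [ConnectedSpace ↥X] :
    HasSplitting (KR X) (posStructure (X := X)) :=
  Groth.Agent.S3785.result X (KR X) posStructure (toKR X) Groth.L12.Kvb.isModel

end Groth.L12.RR.GRR
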