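import Groth.Agent.L12.RR.GRR.Todd
import Groth.Agent.L12.RR.GRR.SplitDual
import Groth.Agent.L12.RR.Shift
import Groth.Agent.L15.ChernChar

/-!
# The Todd class of a tangent element under the Adams operation
-/

set_option autoImplicit false
set_option maxHeartbeats 800000
set_option linter.style.haveILetI false
set_option linter.unusedSectionVars false
set_option backward.isDefEq.respectTransparency false
set_option backward.isDefEq.respectTransparency.types false

universe v u

open CategoryTheory CategoryTheory.Limits AlgebraicGeometry TopologicalSpace LambdaRing TensorProduct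

noncomputable section

namespace Groth.L12.RR.GRR

open Groth.L12.Kvb (KR toKR augHom posStructure)
open Groth.L12.KBunQ (kc)
open Eigen (W Wt mem_Wt)
open Groth.L15.ChernChar (proj Eig Psi)

section Eig

variable {A : Type v} [CommRing A] [Algebra ℚ A] {ψ : A →+* A}

/-- An eigenvector of weight `k` with higher weights is zero. -/
theorem eq_zero_of_Wt_W {k n : ℕ} (hn : k < n) {x : A} (hx : x ∈ Wt ψ 2 k) (hW : x ∈ W ψ 2 n) : x = 0 := by
  obtain ⟨s, hs, h⟩ := Eigen.exists_kill hW
  have key : ∀ (l : List ℕ), (∀ m ∈ l, k < m) → ∀ y ∈ Wt ψ 2 k, Eigen.kill ψ 2 l y = 0 → y = 0 := by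
    intro l
    induction l with
    | nil => intro _ y _ hy; exact hy
    | cons m l ih =>
      intro hl y hy h
      have hop : Eigen.op ψ 2 m y = ((2 : ℚ) ^ k - (2 : ℚ) ^ m) • y := by
        rw [Eigen.op, mem_Wt.1 hy, Algebra.smul_def]
        simp only [map_sub, map_pow, map_ofNat, Nat.cast_ofNat]
        ring
      simp only [Eigen.kill, hop] at h
      have h0 := ih (fun a ha => hl a (List.mem_cons_of_mem _ ha)) _ ((Wt ψ 2 k).smul_mem _ hy) h
      refine (smul_eq_zero.1 h0).resolve_left (sub_ne_zero.2 fun e => ?_)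
      have e' : (2 : ℕ) ^ k = 2 ^ m := by exact_mod_cast e
      have := Nat.pow_right_injective le_rfl e'
      have := hl m List.mem_cons_self
      omega
  exact key _ (fun m hm => lt_of_lt_of_le hn (hs m (Finset.mem_toList.1 hm))) x hx h

theorem esymm_Wt (s : Multiset A) (hs : ∀ x ∈ s, x ∈ Wt ψ 2 1) (i : ℕ) : s.esymm i ∈ Wt ψ 2 i := by
  rw [Multiset.esymm]
  refine multiset_sum_mem _ fun y hy => ?_
  obtain ⟨t, ht, rfl⟩ := Multiset.mem_map.1 hy
  obtain ⟨hle, hcard⟩ := Multiset.mem_powersetCard.1 ht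
  subst hcard
  clear ht hy
  induction t using Multiset.induction with
  | empty => simpa using Eigen.one_mem_Wt
  | cons z t ih =>
    rw [Multiset.prod_cons, Multiset.card_cons, add_comm]
    exact Eigen.mul_mem_Wt (hs z (Multiset.mem_of_le hle (Multiset.mem_cons_self z t)))
      (ih ((Multiset.le_cons_self t z).trans hle))

theorem esymm_approx {ι : Type*} (p q : ι → A) (s : Multiset ι)
    (h : ∀ x ∈ s, q x ∈ Wt ψ 2 1 ∧ p x - q x ∈ W ψ 2 2) (j : ℕ) :
    (s.map p).esymm j - (s.map q).esymm j ∈ W ψ 2 (j + 1) := by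
  have h0 : ∀ t : Multiset A, t.esymm 0 = 1 := fun t => by simp [Multiset.esymm]
  induction s using Multiset.induction generalizing j with
  | empty => simp
  | cons a t ih =>
    rcases j with - | j
    · rw [h0, h0, sub_self]; exact zero_mem _
    rw [Multiset.map_cons, Multiset.map_cons, Groth.L22.Lambda.esymm_cons_succ,
      Groth.L22.Lambda.esymm_cons_succ]
    obtain ⟨hq, hpq⟩ := h a (Multiset.mem_cons_self a t)
    have ht := fun x hx => h x (Multiset.mem_cons_of_mem hx)
    have hQ : (t.map q).esymm j ∈ W ψ 2 j := Eigen.Wt_le_W le_rfl (esymm_Wt _ (fun x hx => by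
      obtain ⟨y, hy, rfl⟩ := Multiset.mem_map.1 hx; exact (ht y hy).1) j)
    have hP : (t.map p).esymm j ∈ W ψ 2 j := by
      have := add_mem (Eigen.W_antitone (Nat.le_succ j) (ih ht j)) hQ
      rwa [sub_add_cancel] at this
    rw [show ∀ P Q R S : A, P + Q * R - (S + q a * (t.map q).esymm j) = (P - S) + ((Q * R) - q a * (t.map q).esymm j)
      from fun P Q R S => by ring,
      show p a * (t.map p).esymm j - q a * (t.map q).esymm j =
        (p a - q a) * (t.map p).esymm j + q a * ((t.map p).esymm j - (t.map q).esymm j) by ring]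
    refine add_mem (ih ht (j + 1)) (add_mem ?_ ?_)
    · rw [show j + 1 + 1 = 2 + j by omega]
      exact Eigen.mul_mem_W hpq hP
    · rw [show j + 1 + 1 = 1 + (j + 1) by omega]
      exact Eigen.mul_mem_W (Eigen.Wt_le_W le_rfl hq) (ih ht j)

end Eig

section Log

variable {A : Type v} [CommRing A] [Algebra ℚ A] (ψ : A →+* A)

open Classical in
/-- The logarithm of a unipotent element. -/
def logU (u : A) : A := if h : IsNilpotent (u - 1) then (exists_exp_eq h).choose else 0

theorem exp_logU {u : A} (h : IsNilpotent (u - 1)) :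
    IsNilpotent (logU u) ∧ IsNilpotent.exp (logU u) = u := by
  rw [logU, dif_pos h]
  refine ⟨(exists_exp_eq h).choose_spec.1, (exists_exp_eq h).choose_spec.2.trans ?_⟩
  ring

theorem logU_mem_Wt {u : A} (h : IsNilpotent (u - 1)) (hψ : ψ u = u ^ 2) : logU u ∈ Wt ψ 2 1 := by
  obtain ⟨h1, h2⟩ := exp_logU h
  refine mem_Wt.2 ?_
  rw [Nat.cast_ofNat, pow_one]
  refine exp_injective (h1.map ψ) ((Commute.all _ _).isNilpotent_mul_left h1) ?_
  rw [← IsNilpotent.map_exp h1 ψ, h2, hψ, two_mul, IsNilpotent.exp_add_of_commute (Commute.all _ _) h1 h1, h2, sq]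

theorem sub_one_sub_logU {u : A} (h : IsNilpotent (u - 1)) (hψ : ψ u = u ^ 2) :
    u - 1 - logU u ∈ W ψ 2 2 := by
  obtain ⟨h1, h2⟩ := exp_logU h
  have hW := logU_mem_Wt ψ h hψ
  obtain ⟨n, hn⟩ := id h1
  have hn2 : logU u ^ (n + 2) = 0 := pow_eq_zero_of_le (by omega) hn
  have hp : ∀ k : ℕ, logU u ^ k ∈ Wt ψ 2 k := fun k => by
    induction k with
    | zero => rw [pow_zero]; exact Eigen.one_mem_Wt
    | succ k ih => rw [pow_succ]; exact Eigen.mul_mem_Wt ih hW
  rw [show u - 1 - logU u = IsNilpotent.exp (logU u) - 1 - logU u by rw [h2], IsNilpotent.exp_eq_sum hn2,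
    Finset.sum_range_succ', Finset.sum_range_succ']
  simp only [pow_zero, zero_add, pow_one, Nat.factorial_zero, Nat.factorial_one, Nat.cast_one, inv_one, one_smul,
    add_sub_cancel_right]
  exact Submodule.sum_mem _ fun k _ => (W ψ 2 2).smul_mem _ (Eigen.Wt_le_W (by omega) (hp (k + 2)))

end Log

section Gamma

variable {K : Type v} [CommRing K] [LambdaOps K]

open Groth.L08.Lambda (gammaSeries)

/-- The series `Π (1 + x t)`. -/
def serK (s : Multiset K) : PowerSeries K := (s.map fun x => 1 + PowerSeries.C x * PowerSeries.X).prod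

/-- The gamma series of a sum of `u - 1` for thin `u`. -/
theorem gammaSeries_lines (h1 : ∀ k : ℕ, 2 ≤ k → LambdaOps.lam k (1 : K) = 0) {s : Multiset K}
    (hs : ∀ u ∈ s, Thin u) :
    gammaSeries (s.map fun u => u - 1).sum = serK (s.map fun u => u - 1) := by
  rw [Groth.L08.Lambda.gammaSeries_multiset_sum, serK, Multiset.map_map, Multiset.map_map]
  exact congrArg Multiset.prod (Multiset.map_congr rfl fun u hu =>
    Groth.L08.Lambda.gammaSeries_sub_one h1 (hs u hu))

theorem map_gamma {L : Type*} [CommRing L] [LambdaOps L] (f : K →+* L)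
    (hl : ∀ i x, f (LambdaOps.lam i x) = LambdaOps.lam i (f x)) (i : ℕ) (x : K) :
    f (gamma i x) = gamma i (f x) := by
  unfold gamma
  rw [apply_ite f, map_one, map_sum]
  congr 1
  refine Finset.sum_congr rfl fun j _ => ?_
  rw [map_mul, map_natCast, apply_ite f, map_zero, hl]

end Gamma

variable {X X' : Scheme.{u}}

/-- A ring map on classes, rationally. -/
def gQ (g : KR X →+* KR X') : KQ X →+* KQ X' :=
  (Algebra.TensorProduct.map (AlgHom.id ℤ ℚ) g.toIntAlgHom).toRingHom

theorem gQ_incl (g : KR X →+* KR X') (x : KR X) : gQ g (incl x) = incl (g x) := rfl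

theorem gQ_injective {g : KR X →+* KR X'} (h : Function.Injective g) : Function.Injective (gQ g) :=
  Module.Flat.lTensor_preserves_injective_linearMap (M := ℚ) g.toIntAlgHom.toLinearMap h

theorem gQ_psiQ [CompactSpace X] [CompactSpace X'] {g : KR X →+* KR X'}
    (hl : ∀ i x, g (LambdaOps.lam i x) = LambdaOps.lam i (g x)) (z : KQ X) : gQ g (psiQ z) = psiQ (gQ g z) := by
  induction z using TensorProduct.induction_on with
  | zero => simp
  | tmul q y =>
    show q ⊗ₜ[ℤ] g (psi 2 y) = q ⊗ₜ[ℤ] psi 2 (g y)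
    rw [map_psi g hl]
  | add a b ha hb => simp only [map_add, ha, hb]

theorem psiQ_incl_line [CompactSpace X] {v : KR X} (hv : Groth.L12.KBunQ.Line v) :
    psiQ (incl v) = incl v ^ 2 := by
  rw [psiQ_incl, psi_of_thin (thin_of_line hv) two_ne_zero, map_pow]

theorem isLine_kc {M : X.Modules} (hM : FlatMod.IsFinLocFreeOfRank 1 M) : Groth.L12.KBunQ.Line (kc X M) :=
  ⟨M, Groth.L12.KBunQ.subLine_of_rank_one hM, rfl⟩

theorem augHom_kc [ConnectedSpace ↥X] {n : ℕ} {M : X.Modules} (hM : FlatMod.IsFinLocFreeOfRank n M) :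
    augHom (kc X M) = n := Groth.L12.Kvb.augHom_cl hM

variable [CompactSpace X] [ConnectedSpace ↥X]

theorem Psi_eq (hS : HasSplitting (KR X) posStructure) (z : KQ X) : Psi posStructure hS z = psiQ z := by
  induction z using TensorProduct.induction_on with
  | zero => simp
  | tmul q y =>
    show q ⊗ₜ[ℤ] adams posStructure 2 y = q ⊗ₜ[ℤ] psi 2 y
    rw [adams_eq_psi _ two_ne_zero]
  | add a b ha hb => simp only [map_add, ha, hb]

omit [CompactSpace X] [ConnectedSpace ↥X] in
theorem smul_KQ (q : ℚ) (z : KQ X) : q • z = algebraMap ℚ (KQ X) q * z := by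
  induction z using TensorProduct.induction_on with
  | zero => simp
  | tmul p y =>
    rw [TensorProduct.smul_tmul', Algebra.TensorProduct.algebraMap_apply, Algebra.TensorProduct.tmul_mul_tmul,
      one_mul, Algebra.algebraMap_self, RingHom.id_apply, smul_eq_mul]
  | add a b ha hb => rw [smul_add, ha, hb, mul_add]

theorem mem_Eig_iff (hS : HasSplitting (KR X) posStructure) {m : ℕ} {z : KQ X} :
    z ∈ Eig posStructure hS m ↔ z ∈ Wt (psiQ (X := X)) 2 m := by
  rw [Eig, Module.End.mem_eigenspace_iff, mem_Wt, AlgHom.toLinearMap_apply, Psi_eq,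
    smul_KQ, map_pow,
    map_ofNat, Nat.cast_ofNat]

variable {L : X.Modules} (hL : CohB1.IsAmple L)

include hL in
theorem ratFil_le_W {n : ℕ} {z : KQ X} (hz : z ∈ Groth.L08.Lambda.ratFil posStructure n) :
    z ∈ W (psiQ (X := X)) 2 n :=
by
  refine Submodule.span_le.2 ?_ hz
  rintro _ ⟨x, hx, rfl⟩
  exact incl_mem_W hL hx

include hL in
/-- The Todd class of a tangent element: integrality data and the functional equation. -/
theorem tau_spec (hS : HasSplitting (KR X) posStructure) {d : ℕ}
    (hd : gammaFiltration (posStructure (X := X)) (d + 1) = ⊥) (n : ℕ) {Lm : X.Modules}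
    (hLm : FlatMod.IsFinLocFreeOfRank 1 Lm) {C : X.Modules} {c : ℕ} (hC : FlatMod.IsFinLocFreeOfRank c C) :
    let τ := Groth.L15.ChernChar.D posStructure hS hd (KGr.tdK posStructure d
      (((n + 1 : ℕ) : KR X) * kc X Lm - 1 - kc X (RefHull.dual C)))
    IsNilpotent (τ - 1) ∧ psiQ τ * incl (theta 2 (n + 1) (((n + 1 : ℕ) : KR X) * kc X (RefHull.dual Lm))) * 2 ^ c =
      incl (theta 2 c (kc X C)) * τ * 2 ^ (n + 1) := by
  classical
  intro τ
  set T := ((n + 1 : ℕ) : KR X) * kc X Lm - 1 - kc X (RefHull.dual C) with hT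
  set y := T - (((posStructure (X := X)).aug T : ℤ) : KR X) with hy
  have hy0 : (posStructure (X := X)).aug y = 0 := by rw [hy, map_sub, map_intCast]; simp
  set a : ℕ → KQ X := fun i => proj posStructure hS d i (incl (gamma i y)) with ha
  have hgF : ∀ i, gamma i y ∈ gammaFiltration (posStructure (X := X)) i :=
    Groth.L15.ChernChar.gamma_mem posStructure hy0
  have haE : ∀ i, a i ∈ Wt (psiQ (X := X)) 2 i := fun i =>
    (mem_Eig_iff hS).1 (Groth.L15.ChernChar.proj_mem posStructure hS hd i _)
  have hτa : τ = TD d a := by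
    show Groth.L15.ChernChar.D posStructure hS hd (KGr.tdK posStructure d T) = _
    rw [KGr.tdK, TD, ← AlgHom.comp_apply,
      show (Groth.L15.ChernChar.D posStructure hS hd).comp
          (MvPolynomial.aeval fun i : Fin d => KGr.chern posStructure ((i : ℕ) + 1) T) =
        MvPolynomial.aeval fun i : Fin d => Groth.L15.ChernChar.D posStructure hS hd
          (KGr.chern posStructure ((i : ℕ) + 1) T) from MvPolynomial.algHom_ext fun i => by simp]
    refine congrArg (fun g => MvPolynomial.aeval g (KGr.toddPoly d)) (funext fun i => ?_)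
    have hx : gamma ((i : ℕ) + 1) y ∈
        gammaFiltration (posStructure (X := X)) (-(-(((i : ℕ) + 1 : ℕ) : ℤ))).toNat := by
      rw [show (-(-(((i : ℕ) + 1 : ℕ) : ℤ))).toNat = (i : ℕ) + 1 by omega]; exact hgF _
    rw [KGr.chern, ← hy, Groth.L15.ChernChar.grK_eq posStructure hx, Groth.L15.ChernChar.D_tmul, one_smul,
      Groth.L15.ChernChar.DZ_cls posStructure hS hd, if_pos (by omega),
      show (-(-(((i : ℕ) + 1 : ℕ) : ℤ))).toNat = (i : ℕ) + 1 by omega]
    rfl
  -- the splitting
  obtain ⟨X', _, f, g, hg, hinj, Ms, hcard, hrk, hsum, hsum'⟩ := exists_split_dual c X C hC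
  have hgS := Groth.L12.KBunQ.split_of_pull f hinj hg
  have hG := gQ_injective hinj
  have hGψ := gQ_psiQ (g := g) hgS.lam
  have hG2 : ∀ {m : ℕ} {z : KQ X}, z ∈ Wt (psiQ (X := X)) 2 m → gQ g z ∈ Wt (psiQ (X := X')) 2 m := by
    intro m z hz
    rw [mem_Wt] at hz ⊢
    rw [← hGψ, hz, map_mul, map_pow, map_natCast]
  have hGW : ∀ {m : ℕ} {z : KQ X}, z ∈ W (psiQ (X := X)) 2 m → gQ g z ∈ W (psiQ (X := X')) 2 m := by
    intro m z hz
    exact Eigen.W_induction (p := fun z => gQ g z ∈ W (psiQ (X := X')) 2 m) hz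
      (fun k hk w hw => Eigen.Wt_le_W hk (hG2 hw)) (by rw [map_zero]; exact zero_mem _)
      fun a b ha hb => by rw [map_add]; exact add_mem ha hb
  set lam := g (kc X Lm) with hlam
  have hlamL : Groth.L12.KBunQ.Line lam := hgS.line _ (isLine_kc hLm)
  have hlamN : IsNilpotent (incl lam - 1) := by
    rw [← map_one (incl (X := X')), ← map_sub, hlam, ← map_one g, ← map_sub]
    refine ((isNilpotent_aug_zero hL ?_).map g).map _
    rw [map_sub, map_one, augHom_kc hLm]; simp
  have hlamD : incl (g (kc X (RefHull.dual Lm))) * incl lam = 1 := by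
    rw [← map_mul, ← map_mul, kc_dual_mul hLm, map_one, map_one]
  have hMline : ∀ M ∈ Ms, Groth.L12.KBunQ.Line (kc X' M) := fun M hM => isLine_kc (hrk M hM)
  have hMN : ∀ M ∈ Ms, IsNilpotent (incl (kc X' M) - 1) := fun M hM => by
    rw [← map_one (incl (X := X')), ← map_sub]
    refine IsNilpotent.map (isNilpotent_line_sub_one hL hgS hC (s := Ms.map (kc X')) (fun v hv => ?_)
      (by rw [Multiset.card_map, hcard]) hsum (Multiset.mem_map.2 ⟨M, hM, rfl⟩)) _
    obtain ⟨M', hM', rfl⟩ := Multiset.mem_map.1 hv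
    exact hMline M' hM'
  have hDline : ∀ M ∈ Ms, Groth.L12.KBunQ.Line (kc X' (RefHull.dual M)) := fun M hM =>
    isLine_kc (Groth.L12.KBun.rank_dual (hrk M hM))
  have hDM : ∀ M ∈ Ms, incl (kc X' (RefHull.dual M)) * incl (kc X' M) = 1 := fun M hM => by
    rw [← map_mul, kc_dual_mul (hrk M hM), map_one]
  have hinvN : ∀ {w v : KQ X'}, w * v = 1 → IsNilpotent (v - 1) → IsNilpotent (w - 1) := by
    intro w v hwv hv
    rw [show w - 1 = -w * (v - 1) by linear_combination (1 : KQ X') * hwv]
    exact (Commute.all _ _).isNilpotent_mul_left hv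
  have hDN : ∀ M ∈ Ms, IsNilpotent (incl (kc X' (RefHull.dual M)) - 1) := fun M hM =>
    hinvN (hDM M hM) (hMN M hM)
  have hneg : ∀ {w v : KQ X'}, w * v = 1 → IsNilpotent (v - 1) → IsNilpotent.exp (-(logU v)) = w := by
    intro w v hwv hv
    obtain ⟨h1, h2⟩ := exp_logU hv
    have := IsNilpotent.exp_neg_mul_exp_self h1
    rw [h2] at this
    exact left_inv_eq_right_inv this (by rw [mul_comm]; exact hwv)
  have hneg' : ∀ {w v : KQ X'}, w * v = 1 → IsNilpotent (w - 1) → IsNilpotent.exp (-(logU w)) = v :=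
    fun hwv hw => hneg (by rw [mul_comm]; exact hwv) hw
  -- the roots
  set lams : Multiset (KQ X') := Multiset.replicate (n + 1) (logU (incl lam)) with hlams
  set etas : Multiset (KQ X') := Ms.map fun M => logU (incl (kc X' (RefHull.dual M))) with hetas
  have hlamW : logU (incl lam) ∈ Wt (psiQ (X := X')) 2 1 := logU_mem_Wt _ hlamN (psiQ_incl_line hlamL)
  have hetaW : ∀ x ∈ etas, x ∈ Wt (psiQ (X := X')) 2 1 := fun x hx => by
    obtain ⟨M, hM, rfl⟩ := Multiset.mem_map.1 hx
    exact logU_mem_Wt _ (hDN M hM) (psiQ_incl_line (hDline M hM))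
  let I : Ideal (KQ X') := Ideal.span ((insert (logU (incl lam)) etas.toFinset : Finset (KQ X')) : Set (KQ X'))
  have hIle : I ≤ nilradical (KQ X') := Ideal.span_le.2 fun x hx => by
    rcases Finset.mem_insert.1 hx with rfl | hx
    · exact (exp_logU hlamN).1
    · obtain ⟨M, hM, rfl⟩ := Multiset.mem_map.1 (Multiset.mem_toFinset.1 hx)
      exact (exp_logU (hDN M hM)).1
  obtain ⟨M₀, hM₀⟩ := Ideal.exists_pow_le_of_le_radical_of_fg hIle ⟨_, rfl⟩
  set N := max d M₀ with hN
  have hI : I ^ (N + 1) = ⊥ :=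
    le_bot_iff.1 ((Ideal.pow_le_pow_right (show M₀ ≤ N + 1 by omega)).trans hM₀)
  have hlI : ∀ x ∈ lams, x ∈ I := fun x hx => by
    rw [Multiset.eq_of_mem_replicate hx]; exact Ideal.subset_span (Finset.mem_insert_self _ _)
  have heI : ∀ x ∈ etas, x ∈ I := fun x hx =>
    Ideal.subset_span (Finset.mem_insert_of_mem (Multiset.mem_toFinset.2 hx))
  -- the Chern series
  have haT : (posStructure (X := X)).aug T = (n : ℤ) - c := by
    show augHom T = _
    rw [hT, map_sub, map_sub, map_mul, map_natCast, map_one, augHom_kc hLm,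
      augHom_kc (Groth.L12.KBun.rank_dual hC)]
    push_cast
    ring
  have hser : Groth.L08.Lambda.gammaSeries (g y) *
      ((Ms.map fun M => kc X' (RefHull.dual M) - 1).map fun x => 1 + PowerSeries.C x * PowerSeries.X).prod =
      ((Multiset.replicate (n + 1) (lam - 1)).map fun x => 1 + PowerSeries.C x * PowerSeries.X).prod := by
    have h1 : ∀ k : ℕ, 2 ≤ k → LambdaOps.lam k (1 : KR X') = 0 := thin_of_line Groth.L12.KBunQ.lineSet.one
    have e1 := gammaSeries_lines h1 (s := Ms.map fun M => kc X' (RefHull.dual M)) fun u hu => by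
      obtain ⟨M, hM, rfl⟩ := Multiset.mem_map.1 hu; exact thin_of_line (hDline M hM)
    have e2 := gammaSeries_lines h1 (s := Multiset.replicate (n + 1) lam) fun u hu => by
      rw [Multiset.eq_of_mem_replicate hu]; exact thin_of_line hlamL
    simp only [serK, Multiset.map_replicate, Multiset.map_map] at e1 e2
    simp only [Multiset.map_replicate, Multiset.map_map]
    simp only [Function.comp_def] at e1 ⊢
    rw [← e1, ← e2, ← Groth.L08.Lambda.gammaSeries_add]
    refine congrArg _ ?_
    rw [hy, haT, hT, Multiset.sum_replicate, nsmul_eq_mul, Multiset.sum_map_sub, Multiset.map_const',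
      Multiset.sum_replicate, hcard, ← hsum']
    simp only [map_sub, map_mul, map_one, map_natCast, map_intCast, ← hlam]
    push_cast
    simp only [nsmul_eq_mul, mul_one]
    ring
  have hserQ := congrArg (PowerSeries.map (incl (X := X'))) hser
  simp only [map_mul, map_multiset_prod, Multiset.map_map] at hserQ
  have hmapser : ∀ s : Multiset (KR X'), (s.map ((PowerSeries.map (incl (X := X'))) ∘
      fun x => 1 + PowerSeries.C x * PowerSeries.X)).prod = ser (s.map incl) := fun s => by
    rw [ser, Multiset.map_map]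
    refine congrArg Multiset.prod (Multiset.map_congr rfl fun x _ => ?_)
    simp
  set pD : X'.Modules → KQ X' := fun M => incl (kc X' (RefHull.dual M) - 1) with hpD
  have hsE : (Ms.map ((PowerSeries.map (incl (X := X'))) ∘ ((fun x => 1 + PowerSeries.C x * PowerSeries.X) ∘
      fun M => kc X' (RefHull.dual M) - 1))).prod = ser (Ms.map pD) := by
    have := hmapser (Ms.map fun M => kc X' (RefHull.dual M) - 1)
    simp only [Multiset.map_map] at this
    exact this
  rw [hsE, hmapser, Multiset.map_replicate] at hserQ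
  -- compare the parts of weight k
  set a' : ℕ → KQ X' := fun i => gQ g (a i) with ha'
  have happrox : ∀ i, incl (g (gamma i y)) - a' i ∈ W (psiQ (X := X')) 2 (i + 1) := fun i => by
    rw [← gQ_incl, ha', ← map_sub]
    refine hGW (ratFil_le_W hL ?_)
    have := (Groth.L15.ChernChar.proj_sub_mem posStructure hS hd
      (Groth.L15.ChernChar.tmul_mem posStructure (hgF i))).1
    rw [← neg_sub]
    exact neg_mem this
  have hetaA : ∀ M ∈ Ms, logU (incl (kc X' (RefHull.dual M))) ∈ Wt (psiQ (X := X')) 2 1 ∧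
      pD M - logU (incl (kc X' (RefHull.dual M))) ∈ W (psiQ (X := X')) 2 2 := fun M hM =>
    ⟨hetaW _ (Multiset.mem_map.2 ⟨M, hM, rfl⟩), by
      simp only [hpD, map_sub, map_one]
      exact sub_one_sub_logU _ (hDN M hM) (psiQ_incl_line (hDline M hM))⟩
  have hlamA : ∀ j, (Multiset.replicate (n + 1) (incl (lam - 1))).esymm j - lams.esymm j ∈
      W (psiQ (X := X')) 2 (j + 1) := fun j => by
    have := esymm_approx (ψ := psiQ (X := X')) (fun _ : Unit => incl (lam - 1)) (fun _ => logU (incl lam))
      (Multiset.replicate (n + 1) ()) (fun _ _ => ⟨hlamW, by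
        rw [map_sub, map_one]; exact sub_one_sub_logU _ hlamN (psiQ_incl_line hlamL)⟩) j
    rwa [Multiset.map_replicate, Multiset.map_replicate] at this
  have hcoef : ∀ k ≤ N, PowerSeries.coeff k (PowerSeries.mk a' * ser etas) = lams.esymm k := fun k _ => by
    rw [PowerSeries.coeff_mul, ← sub_eq_zero]
    refine eq_zero_of_Wt_W (Nat.lt_succ_self k) (sub_mem (Submodule.sum_mem _ fun p hp => ?_)
      (esymm_Wt _ (fun x hx => by rw [Multiset.eq_of_mem_replicate hx]; exact hlamW) k)) ?_
    · rw [PowerSeries.coeff_mk, coeff_ser, ← Finset.mem_antidiagonal.1 hp]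
      exact Eigen.mul_mem_Wt (hG2 (haE _)) (esymm_Wt _ hetaW _)
    · have hk := congrArg (PowerSeries.coeff k) hserQ
      rw [PowerSeries.coeff_mul, coeff_ser] at hk
      rw [← neg_mem_iff, neg_sub,
        show lams.esymm k - _ = (lams.esymm k - (Multiset.replicate (n + 1) (incl (lam - 1))).esymm k) +
          ((Multiset.replicate (n + 1) (incl (lam - 1))).esymm k - _) from (sub_add_sub_cancel _ _ _).symm]
      refine add_mem (by rw [← neg_sub]; exact neg_mem (hlamA k)) ?_
      rw [← hk, ← Finset.sum_sub_distrib]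
      refine Submodule.sum_mem _ fun p hp => ?_
      rw [PowerSeries.coeff_map, Groth.L08.Lambda.coeff_gammaSeries, PowerSeries.coeff_mk, coeff_ser, coeff_ser,
        ← map_gamma g hgS.lam, ← Finset.mem_antidiagonal.1 hp,
        show ∀ A B C D : KQ X', A * B - C * D = (A - C) * B + C * (B - D) from fun A B C D => by ring]
      refine add_mem ?_ ?_
      · rw [Nat.succ_eq_add_one, show p.1 + p.2 + 1 = (p.1 + 1) + p.2 by omega]
        refine Eigen.mul_mem_W (happrox p.1) ?_
        have h1 := add_mem (Eigen.W_antitone (Nat.le_succ p.2) (esymm_approx pD _ Ms hetaA p.2))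
          (Eigen.Wt_le_W le_rfl (esymm_Wt _ hetaW p.2))
        rwa [hetas, sub_add_cancel] at h1
      · rw [Nat.succ_eq_add_one, show p.1 + p.2 + 1 = p.1 + (p.2 + 1) by omega]
        exact Eigen.mul_mem_W (Eigen.Wt_le_W le_rfl (hG2 (haE _))) (esymm_approx pD _ Ms hetaA p.2)
  have hTD : gQ g τ * (etas.map (beta N)).prod = (lams.map (beta N)).prod := by
    rw [hτa, ← TD_stable (show d ≤ N from le_max_left _ _) a
      (fun i hi => Groth.L15.ChernChar.mem_eig_zero_of_lt posStructure hS hd hi
        (Groth.L15.ChernChar.proj_mem posStructure hS hd i _)) (fun m hm => ?_), map_TD]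
    · exact TD_ratio hI hlI heI a' hcoef
    · refine Groth.L15.ChernChar.mem_eig_zero_of_lt posStructure hS hd hm ((mem_Eig_iff hS).2 ?_)
      unfold Groth.L15.ToddTop.wt
      generalize (Finset.univ : Finset (Fin d)) = s
      induction s using Finset.induction with
      | empty => simpa using Eigen.one_mem_Wt
      | insert i s hi ih =>
        rw [Finset.prod_insert hi, Finset.sum_insert hi]
        refine Eigen.mul_mem_Wt ?_ ih
        generalize m i = e
        induction e with
        | zero => simpa using Eigen.one_mem_Wt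
        | succ e ihe => rw [pow_succ, Nat.succ_mul]; exact Eigen.mul_mem_Wt ihe (haE _)
  refine ⟨?_, ?_⟩
  · refine (IsNilpotent.map_iff hG).1 ?_
    rw [map_sub, map_one]
    obtain ⟨u, hu⟩ := isUnit_prod_beta hI heI
    have hnum : gQ g τ - 1 ∈ I := by
      have h1 := Ideal.mul_mem_left I (↑u⁻¹ : KQ X')
        (sub_mem (prod_beta_sub_one_mem hlI N) (prod_beta_sub_one_mem heI N))
      rw [← hTD, ← hu] at h1
      rw [show (↑u⁻¹ : KQ X') * (gQ g τ * ↑u - 1 - (↑u - 1)) = gQ g τ - 1 by
        linear_combination (gQ g τ - 1) * u.inv_mul] at h1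
      exact h1
    exact mem_nilradical.1 (hIle hnum)
  refine hG ?_
  simp only [map_mul, map_pow, map_ofNat, gQ_incl, map_theta g hgS.lam, map_natCast, hGψ]
  have hthP : incl (theta 2 (n + 1) (((n + 1 : ℕ) : KR X') * g (kc X (RefHull.dual Lm)))) =
      (lams.map fun x => 1 + IsNilpotent.exp (-x)).prod := by
    have hs : (((n + 1 : ℕ) : KR X') * g (kc X (RefHull.dual Lm))) =
        (Multiset.replicate (n + 1) (g (kc X (RefHull.dual Lm)))).sum := by
      rw [Multiset.sum_replicate, nsmul_eq_mul]
    have := theta_sum_thin (s := Multiset.replicate (n + 1) (g (kc X (RefHull.dual Lm))))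
      (fun u hu => by
        rw [Multiset.eq_of_mem_replicate hu]
        exact thin_of_line (hgS.line _ (isLine_kc (Groth.L12.KBun.rank_dual hLm)))) 2
    rw [Multiset.card_replicate, ← hs] at this
    rw [this, map_multiset_prod, Multiset.map_map, hlams, Multiset.map_replicate, Multiset.map_replicate]
    refine congrArg (fun x => (Multiset.replicate (n + 1) x).prod) ?_
    simp only [Function.comp_apply, Finset.sum_range_succ, Finset.range_zero, Finset.sum_empty, zero_add, pow_zero,
      pow_one, map_add, map_one]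
    rw [hneg hlamD hlamN]
  have hthC : incl (theta 2 c (g (kc X C))) = (etas.map fun x => 1 + IsNilpotent.exp (-x)).prod := by
    have := theta_sum_thin (s := Ms.map (kc X')) (fun u hu => by
      obtain ⟨M, hM, rfl⟩ := Multiset.mem_map.1 hu; exact thin_of_line (hMline M hM)) 2
    rw [Multiset.card_map, hcard, ← hsum] at this
    rw [this, map_multiset_prod, hetas, Multiset.map_map, Multiset.map_map, Multiset.map_map]
    refine congrArg Multiset.prod (Multiset.map_congr rfl fun M hM => ?_)
    simp only [Function.comp_apply, Finset.sum_range_succ, Finset.range_zero, Finset.sum_empty, zero_add, pow_zero,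
      pow_one, map_add, map_one]
    rw [hneg' (hDM M hM) (hDN M hM)]
  rw [hthP, hthC]
  have hfun : ∀ x ∈ I, beta N (psiQ (X := X') x) = psiQ (beta N x) := fun x _ => (map_beta _ N x).symm
  have hpow : ∀ x ∈ I, x ^ (N + 1) = 0 := fun x hx => by
    have := Ideal.pow_mem_pow hx (N + 1)
    rwa [hI, Ideal.mem_bot] at this
  have hprod : ∀ s : Multiset (KQ X'), (∀ x ∈ s, x ∈ I) → (∀ x ∈ s, x ∈ Wt (psiQ (X := X')) 2 1) →
      psiQ (s.map (beta N)).prod * (s.map fun x => 1 + IsNilpotent.exp (-x)).prod =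
        2 ^ Multiset.card s * (s.map (beta N)).prod := fun s hs hW => by
    rw [map_multiset_prod, Multiset.map_map, ← Multiset.prod_map_mul,
      Multiset.map_congr rfl (g := fun x => 2 * beta N x) fun x hx => ?_, Multiset.prod_map_mul,
      Multiset.map_const', Multiset.prod_replicate]
    rw [Function.comp_apply, ← hfun x (hs x hx), mem_Wt.1 (hW x hx), pow_one, Nat.cast_ofNat]
    exact beta_two_mul (hpow x (hs x hx))
  have hE := hprod etas heI hetaW
  have hLl := hprod lams hlI fun x hx => by rw [Multiset.eq_of_mem_replicate hx]; exact hlamW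
  rw [hetas, Multiset.card_map, hcard, ← hetas] at hE
  rw [hlams, Multiset.card_replicate, ← hlams] at hLl
  have hT2 := congrArg (psiQ (X := X')) hTD
  rw [map_mul] at hT2
  refine ((isUnit_prod_beta hI heI).mul ((isUnit_prod_beta hI heI).map (psiQ (X := X')))).mul_left_inj.1 ?_
  linear_combination ((lams.map fun x => 1 + IsNilpotent.exp (-x)).prod * 2 ^ c * (etas.map (beta N)).prod) * hT2 +
    (2 ^ c * (etas.map (beta N)).prod) * hLl -
    ((etas.map fun x => 1 + IsNilpotent.exp (-x)).prod * 2 ^ (n + 1) * psiQ (etas.map (beta N)).prod) * hTD -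
    (2 ^ (n + 1) * (lams.map (beta N)).prod) * hE

end Groth.L12.RR.GRR
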