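import Groth.Agent.S3753
import Groth.Agent.S3777
import Groth.Agent.L12.RR.GRR.TdClass
import Groth.Agent.L12.RR.Models
import Mathlib.RingTheory.Localization.Away.Basic

/-!
# The rational Adams Riemann–Roch formula for a projective local complete intersection morphism
-/

set_option autoImplicit false
set_option maxHeartbeats 800000
set_option linter.style.haveILetI false
set_option linter.unusedSectionVars false
set_option backward.isDefEq.respectTransparency false
set_option backward.isDefEq.respectTransparency.types false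

universe v u

open CategoryTheory CategoryTheory.Limits AlgebraicGeometry TopologicalSpace LambdaRing TensorProduct

attribute [local instance] HasDerivedCategory.standard

noncomputable section

namespace Groth.L12.RR.GRR

open Groth.L12.Kvb (KR toKR augHom posStructure)
open Groth.L12.KBunQ (kc)

variable {X Y : Scheme.{u}}

/-- The line `i^* O(1)`. -/
abbrev oneLine (n : ℕ) (i : X ⟶ _root_.KRR.PY n Y) : X.Modules :=
  (Scheme.Modules.pullback i).obj (Twist.twistOver n Y (1 : ℤ))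

/-- The pullback of `p^* O^{n+1} ⊗ O(-1)` is `(n+1)` times the inverse of `i^* O(1)`. -/
theorem pull_q [IsNoetherian Y] [ConnectedSpace ↥Y] (n : ℕ) [ConnectedSpace ↥(_root_.KRR.PY n Y)]
    (i : X ⟶ _root_.KRR.PY n Y) (gi : KR (_root_.KRR.PY n Y) →+* KR X)
    (hgi : ∀ M, FlatMod.IsFinLocFree M → gi (kc _ M) = kc X ((Scheme.Modules.pullback i).obj M)) :
    gi (kc _ (_root_.KRR.twF n Y (-1)
      ((Scheme.Modules.pullback (_root_.KRR.pr n Y)).obj (FlatMod.freeMod Y (n + 1))))) =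
      ((n + 1 : ℕ) : KR X) * kc X (RefHull.dual (oneLine n i)) := by
  have hPR := Groth.L12.Kvb.isModel (X := _root_.KRR.PY n Y)
  have hYR := Groth.L12.Kvb.isModel (X := Y)
  obtain ⟨q, hq⟩ := Groth.L12.KBunQ.exists_pull (_root_.KRR.pr n Y)
  have hfree : FlatMod.IsFinLocFree (FlatMod.freeMod Y (n + 1)) := Groth.L18.KRRAmple.isFinLocFree_freeMod _
  have hrk : ∀ a : ℤ, FlatMod.IsFinLocFreeOfRank 1 (Twist.twistOver n Y a) := fun a =>
    Groth.L18.KRRAmple.isRankOne_of_isInvertible (Groth.L17.Strat.isInvertible_twistOver n Y a)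
  have hvb : ∀ a : ℤ, FlatMod.IsFinLocFree (Twist.twistOver n Y a) := fun a =>
    Groth.L18.KRRAmple.isFinLocFree_of_rank (hrk a)
  have hlm : kc (_root_.KRR.PY n Y) (Twist.twistOver n Y (-1 : ℤ)) *
      kc (_root_.KRR.PY n Y) (Twist.twistOver n Y (1 : ℤ)) = 1 := by
    refine (Groth.L12.KRR.cl_O_add hPR (-1) 1).trans ?_
    rw [neg_add_cancel]
    exact Groth.L12.KRR.cl_O_zero hPR
  have e : kc _ (_root_.KRR.twF n Y (-1)
      ((Scheme.Modules.pullback (_root_.KRR.pr n Y)).obj (FlatMod.freeMod Y (n + 1)))) =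
      kc (_root_.KRR.PY n Y) (Twist.twistOver n Y (-1 : ℤ)) * ((n + 1 : ℕ) : KR (_root_.KRR.PY n Y)) := by
    refine (Groth.L12.KRR.cl_twF hPR _ (Groth.L29.LocFree.pullback _ hfree)).trans ?_
    refine congrArg _ ?_
    refine (hq _ hfree).symm.trans ?_
    rw [show kc Y (FlatMod.freeMod Y (n + 1)) = ((n + 1 : ℕ) : KR Y) from Groth.L18.KRRAmple.phi_freeMod hYR _,
      map_natCast]
  rw [e, map_mul, map_natCast, mul_comm]
  congr 1
  have h1 : gi (kc _ (Twist.twistOver n Y (-1 : ℤ))) * kc X (oneLine n i) = 1 := by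
    rw [← hgi _ (hvb 1), ← map_mul, hlm, map_one]
  have hrk' : FlatMod.IsFinLocFreeOfRank 1 (oneLine n i) := Groth.L18.KRRAmple.isRankOne_of_isInvertible
    (Groth.L18.Ample.isInvertible_pullback i (Groth.L17.Strat.isInvertible_twistOver n Y 1))
  exact left_inv_eq_right_inv h1 (by rw [mul_comm]; exact kc_dual_mul hrk')

/-- `ℤ[1/2] → ℚ`. -/
def toQ : Localization.Away ((2 : ℕ) : ℤ) →+* ℚ :=
  IsLocalization.Away.lift (S := Localization.Away ((2 : ℕ) : ℤ)) (g := Int.castRingHom ℚ) ((2 : ℕ) : ℤ)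
    (by norm_num)

section Transfer

variable {R : Type} [CommRing R] (φ : R →+* ℚ)

/-- `R ⊗ K → ℚ ⊗ K`. -/
def toKQ (X : Scheme.{u}) : TensorProduct ℤ R (KR X) →+* KQ X :=
  (Algebra.TensorProduct.map φ.toIntAlgHom (AlgHom.id ℤ (KR X))).toRingHom

theorem toKQ_tmul (r : R) (x : KR X) : toKQ φ X (r ⊗ₜ[ℤ] x) = φ r ⊗ₜ[ℤ] x := rfl

theorem toKQ_one_tmul (x : KR X) : toKQ φ X ((1 : R) ⊗ₜ[ℤ] x) = incl x := by
  rw [toKQ_tmul, map_one, incl_apply]

theorem toKQ_lTensor (h : KR X →+ KR Y) (z : TensorProduct ℤ R (KR X)) :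
    toKQ φ Y (LinearMap.lTensor R h.toIntLinearMap z) = mapQ h (toKQ φ X z) := by
  induction z using TensorProduct.induction_on with
  | zero => rw [map_zero, map_zero, map_zero, map_zero]
  | tmul r y => rfl
  | add a b ha hb => simp only [map_add, ha, hb]

include φ in
/-- An Adams formula with coefficients in `R` holds rationally. -/
theorem transfer (h : KR X →+ KR Y) (P : KR X) (A : KR X → KR Y) (B : KR X → KR X)
    (he : ∀ x, (∃ w : TensorProduct ℤ R (KR X), w * ((1 : R) ⊗ₜ[ℤ] P) = 1) ∧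
      ∀ w : TensorProduct ℤ R (KR X), w * ((1 : R) ⊗ₜ[ℤ] P) = 1 → (1 : R) ⊗ₜ[ℤ] A x =
        LinearMap.lTensor R h.toIntLinearMap ((2 : ℕ) * ((1 : R) ⊗ₜ[ℤ] B x) * w)) :
    ∃ w : KQ X, w * incl P = 1 ∧ ∀ x, incl (A x) = mapQ h (2 * incl (B x) * w) := by
  obtain ⟨w, hw⟩ := (he 0).1
  refine ⟨toKQ φ X w, by rw [← toKQ_one_tmul φ, ← map_mul, hw, map_one], fun x => ?_⟩
  rw [← toKQ_one_tmul φ, (he x).2 w hw, toKQ_lTensor, map_mul (toKQ φ X), map_mul (toKQ φ X), map_natCast,
    toKQ_one_tmul]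
  simp

end Transfer

section Main

variable {S : Scheme.{u}} [IsAffine S] [IsNoetherian S] [IsNoetherian X] [IsNoetherian Y] [ConnectedSpace ↥Y]
  [ConnectedSpace ↥X] (n : ℕ) {qY : Y ⟶ S} (hqY : _root_.KRR.IsQProjOver qY) (i : X ⟶ _root_.KRR.PY n Y)
  (hi : Mor2.IsRegularClosedImmersion i) {c : ℕ} (hC : FlatMod.IsFinLocFreeOfRank c (Omega.conormal i))
  [ConnectedSpace ↥(_root_.KRR.PY n Y)]
  {a : KR X →+ KR (_root_.KRR.PY n Y)} (ha : _root_.KRR.IsPushCl i (toKR X) (toKR _) a)
  {b : KR (_root_.KRR.PY n Y) →+ KR Y} (hb : _root_.KRR.IsPushPr n Y (toKR _) (toKR Y) b)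

include hqY hi hC ha hb in
/-- The rational Adams formula for `b ∘ a`. -/
theorem adams_rat :
    ∃ w : KQ X, w * incl (theta 2 (n + 1) (((n + 1 : ℕ) : KR X) * kc X (RefHull.dual (oneLine n i)))) = 1 ∧
      ∀ z : KQ X, psiQ (mapQ (b.comp a) z) =
        mapQ (b.comp a) (2 * incl (theta 2 c (kc X (Omega.conormal i))) * psiQ z * w) := by
  obtain ⟨gi, hgi⟩ := Groth.L12.KBunQ.exists_pull i
  have h53 := fun x => Groth.Agent.S3753.result S n qY hqY i hi c hC (KR X) posStructure (toKR X)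
    Groth.L12.Kvb.isModel (KR _) posStructure (toKR _) Groth.L12.Kvb.isModel (KR Y) posStructure (toKR Y)
    Groth.L12.Kvb.isModel gi.toAddMonoidHom hgi a ha b hb 2 one_le_two x
  have hq := pull_q n i gi hgi
  have hrk : FlatMod.IsFinLocFreeOfRank 1 (oneLine n i) := Groth.L18.KRRAmple.isRankOne_of_isInvertible
    (Groth.L18.Ample.isInvertible_pullback i (Groth.L17.Strat.isInvertible_twistOver n Y 1))
  have hbottP : _root_.KRR.bott (posStructure (X := X)) 2 (gi.toAddMonoidHom (toKR _ (_root_.KRR.cl _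
      (_root_.KRR.twF n Y (-1) ((Scheme.Modules.pullback (_root_.KRR.pr n Y)).obj (FlatMod.freeMod Y (n + 1))))))) =
      theta 2 (n + 1) (((n + 1 : ℕ) : KR X) * kc X (RefHull.dual (oneLine n i))) := by
    refine (congrArg (_root_.KRR.bott (posStructure (X := X)) 2) hq).trans (bott_eq_theta _ _ ?_)
    show augHom (((n + 1 : ℕ) : KR X) * kc X (RefHull.dual (oneLine n i))) = _
    rw [map_mul, map_natCast, augHom_kc (Groth.L12.KBun.rank_dual hrk), Nat.cast_one, mul_one]
  have hbottC : _root_.KRR.bott (posStructure (X := X)) 2 (toKR X (_root_.KRR.cl X (Omega.conormal i))) =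
      theta 2 c (kc X (Omega.conormal i)) :=
    bott_eq_theta _ _ (augHom_kc hC)
  rw [hbottP, hbottC] at h53
  obtain ⟨w, hw, hA⟩ := transfer (R := Localization.Away ((2 : ℕ) : ℤ)) toQ (b.comp a)
    (theta 2 (n + 1) (((n + 1 : ℕ) : KR X) * kc X (RefHull.dual (oneLine n i))))
    (fun x => adams posStructure 2 (b (a x)))
    (fun x => theta 2 c (kc X (Omega.conormal i)) * adams posStructure 2 x) h53
  refine ⟨w, hw, fun z => ?_⟩
  induction z using TensorProduct.induction_on with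
  | zero => simp only [map_zero, mul_zero, zero_mul]
  | add p q hp hq => simp only [map_add, mul_add, add_mul, hp, hq]
  | tmul r x =>
    have h2 := hA x
    rw [map_mul (incl (X := X)), adams_eq_psi _ two_ne_zero, adams_eq_psi _ two_ne_zero] at h2
    have e : (r ⊗ₜ[ℤ] x : KQ X) = r • incl x := by
      rw [incl_apply, TensorProduct.smul_tmul', smul_eq_mul, mul_one]
    have hs : ∀ (Z : Scheme.{u}) [CompactSpace Z] (p : KQ Z), psiQ (r • p) = r • psiQ p := fun Z _ p => by
      rw [smul_KQ, map_mul, RingHom.map_rat_algebraMap, ← smul_KQ]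
    rw [e, map_smul, hs Y, hs X, mapQ_incl, psiQ_incl, psiQ_incl,
      show (b.comp a) x = b (a x) from rfl, h2, ← map_smul]
    refine congrArg _ ?_
    rw [smul_KQ, smul_KQ]
    ring

end Main

end Groth.L12.RR.GRR
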