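import Groth.Agent.L12.RR.GRR.Core
import Groth.Agent.L12.KBun.Transfer

/-!
# Functoriality of the graded ring of a λ-ring under isomorphisms
-/

set_option autoImplicit false
set_option maxHeartbeats 400000
set_option linter.style.haveILetI false
set_option linter.unusedSectionVars false
set_option backward.isDefEq.respectTransparency false
set_option backward.isDefEq.respectTransparency.types false

universe v w

open LambdaRing TensorProduct LaurentPolynomial

noncomputable section

namespace Groth.L12.RR.GRR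

variable {K : Type v} [CommRing K] [LambdaOps K] {P : PosStructure K}
  {K' : Type w} [CommRing K'] [LambdaOps K'] {P' : PosStructure K'} (e : K ≃+* K')
  (hl : ∀ i x, e (LambdaOps.lam i x) = LambdaOps.lam i (e x)) (ha : ∀ x, P'.aug (e x) = P.aug x)

/-- The map of Laurent polynomials. -/
def lmap : LaurentPolynomial K →+* LaurentPolynomial K' := AddMonoidAlgebra.mapRingHom ℤ e.toRingHom

theorem lmap_monomial (x : K) (n : ℤ) : lmap e (C x * T n) = C (e x) * T n := by
  rw [← single_eq_C_mul_T, ← single_eq_C_mul_T]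
  simp [lmap, -single_eq_C_mul_T]

theorem lmap_T (n : ℤ) : lmap e (T n) = T n := by
  have := lmap_monomial e 1 n
  rwa [map_one C, one_mul, map_one e, map_one C, one_mul] at this

include hl ha in
theorem map_gammaFiltration {n : ℕ} {x : K} (hx : x ∈ gammaFiltration P n) : e x ∈ gammaFiltration P' n := by
  rw [← Groth.L12.KBun.comap_gammaFiltration_of_bijective e hl ha n] at hx
  exact hx

include hl ha in
theorem lmap_mem_rees {p : LaurentPolynomial K} (hp : p ∈ KGr.rees P) : lmap e p ∈ KGr.rees P' := by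
  have h := Subring.subset_closure (s := KGr.reesGens P')
  suffices KGr.rees P ≤ (KGr.rees P').comap (lmap e) from this hp
  refine Subring.closure_le.2 ?_
  rintro q (rfl | ⟨n, x, hx, rfl⟩)
  · show lmap e (T 1) ∈ KGr.rees P'
    rw [lmap_T]
    exact h (Set.mem_insert _ _)
  · show lmap e _ ∈ KGr.rees P'
    rw [lmap_monomial]
    exact h (Set.mem_insert_of_mem _ ⟨n, e x, map_gammaFiltration e hl ha hx, rfl⟩)

/-- The map of Rees rings. -/
def reesMap : KGr.rees P →+* KGr.rees P' :=
  ((lmap e).comp (KGr.rees P).subtype).codRestrict _ fun p => lmap_mem_rees e hl ha p.2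

/-- The map of graded rings. -/
def grZMap : KGr.GrZ P →+* KGr.GrZ P' :=
  Ideal.quotientMap _ (reesMap e hl ha) (Ideal.span_le.2 fun x hx => by
    rw [Set.mem_singleton_iff] at hx
    subst hx
    exact Ideal.subset_span (Set.mem_singleton_iff.2 (Subtype.ext (lmap_T e 1))))

/-- The map of rational graded rings. -/
def grMap : KGr.Gr P →ₐ[ℚ] KGr.Gr P' :=
  Algebra.TensorProduct.map (AlgHom.id ℚ ℚ) (grZMap e hl ha).toIntAlgHom

include hl ha in
theorem mem_rees_iff (n : ℤ) (x : K) : C x * T n ∈ KGr.rees P ↔ C (e x) * T n ∈ KGr.rees P' := by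
  refine ⟨fun h => lmap_monomial e x n ▸ lmap_mem_rees e hl ha h, fun h => ?_⟩
  have hl' : ∀ i y, e.symm (LambdaOps.lam i y) = LambdaOps.lam i (e.symm y) := fun i y =>
    e.injective (by rw [e.apply_symm_apply, hl, e.apply_symm_apply])
  have ha' : ∀ y, P.aug (e.symm y) = P'.aug y := fun y => by rw [← ha, e.apply_symm_apply]
  have := lmap_mem_rees e.symm hl' ha' h
  rwa [lmap_monomial, e.symm_apply_apply] at this

theorem grMap_grK (n : ℤ) (x : K) : grMap e hl ha (KGr.grK P n x) = KGr.grK P' n (e x) := by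
  by_cases h : ∃ N : ℕ, 1 ≤ N ∧ C ((N : K) * x) * T (-n) ∈ KGr.rees P
  · obtain ⟨N, hN, hx⟩ := h
    have hx' : C ((N : K') * e x) * T (-n) ∈ KGr.rees P' := by
      rw [← map_natCast e N, ← map_mul]
      exact (mem_rees_iff e hl ha (-n) _).1 hx
    rw [grK_eq_of P n x hN hx, grK_eq_of P' n (e x) hN hx']
    show ((1 : ℚ) / (N : ℚ)) ⊗ₜ[ℤ] Ideal.Quotient.mk _ (reesMap e hl ha ⟨_, hx⟩) = _
    congr 2
    refine Subtype.ext ?_
    show lmap e (C ((N : K) * x) * T (-n)) = C ((N : K') * e x) * T (-n)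
    rw [lmap_monomial, map_mul, map_natCast]
  · have h' : ¬ ∃ N : ℕ, 1 ≤ N ∧ C ((N : K') * e x) * T (-n) ∈ KGr.rees P' := fun ⟨N, hN, hx⟩ =>
      h ⟨N, hN, (mem_rees_iff e hl ha (-n) _).2 (by rwa [map_mul, map_natCast])⟩
    rw [KGr.grK, dif_neg h, KGr.grK, dif_neg h', map_zero]

theorem grMap_chern (i : ℕ) (x : K) : grMap e hl ha (KGr.chern P i x) = KGr.chern P' i (e x) := by
  rw [KGr.chern, KGr.chern, grMap_grK, ha, ← map_intCast e (P.aug x), ← map_sub]
  exact congrArg _ (Groth.L12.RR.GRR.map_gamma e.toRingHom hl i _)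

theorem grMap_chK (d : ℕ) (x : K) : grMap e hl ha (KGr.chK P d x) = KGr.chK P' d (e x) := by
  rw [KGr.chK, KGr.chK, map_add, AlgHom.commutes, ha]
  congr 1
  rw [← AlgHom.comp_apply]
  refine congrFun (congrArg DFunLike.coe (MvPolynomial.algHom_ext fun i => ?_)) _
  simp [grMap_chern]

theorem grMap_tdK (d : ℕ) (x : K) : grMap e hl ha (KGr.tdK P d x) = KGr.tdK P' d (e x) := by
  rw [KGr.tdK, KGr.tdK, ← AlgHom.comp_apply]
  refine congrFun (congrArg DFunLike.coe (MvPolynomial.algHom_ext fun i => ?_)) _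
  simp [grMap_chern]

end Groth.L12.RR.GRR
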