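import Groth.Agent.L12.RR.GRR.SplitDual
import Groth.Agent.L12.RR.Def.Retr
import Groth.Agent.L12.KRes.KPushCl
import Groth.Agent.L12.KRes.PushPrPd
import Groth.Agent.L12.PushFree.KPush
import Groth.Agent.L03.Euler.Basic
import Groth.Agent.L03.Euler.Push
import Groth.Agent.L03.BlowPt.PtDeg
import Groth.Agent.L22.Inter.PushProper
import Groth.Agent.L12.IntSh.Pos.Top
import Groth.Agent.L11.Weil.Geom

/-!
# Euler characteristics and the push-forward to a point
-/

set_option autoImplicit false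
set_option maxHeartbeats 400000
set_option linter.style.haveILetI false
set_option linter.unusedSectionVars false
set_option backward.isDefEq.respectTransparency false
set_option backward.isDefEq.respectTransparency.types false

universe v u

open CategoryTheory CategoryTheory.Limits AlgebraicGeometry

attribute [local instance] HasDerivedCategory.standard

noncomputable section

namespace Groth.L12.RR.GRR

variable (k : Type u) [Field k]

local notation "Pt" => Spec (CommRingCat.of k)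

theorem isQProjOver_id : _root_.KRR.IsQProjOver (𝟙 Pt) := by
  haveI := Groth.L16.ProjSpace.isIso_toSpec_zero (ULift.{u} ℤ)
  haveI : IsIso (CohB1.ProjSpaceOver.toBase 0 Pt) :=
    inferInstanceAs (IsIso (Limits.pullback.snd (CohB1.ProjSpace.toSpec 0 (ULift.{u} ℤ))
      (specULiftZIsTerminal.from Pt)))
  exact ⟨0, inv (CohB1.ProjSpaceOver.toBase 0 Pt), inferInstance, IsIso.inv_hom_id _⟩

/-- The Euler characteristic on `K₀` of bundles. -/
def eulerHom (Z : Scheme.{u}) [Z.Over Pt] [IsProper (Z ↘ Pt)] : SGA6.Kvb Z →+ ℤ :=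
  Groth.L29.KSub.lift (P := _root_.KRR.vbP Z) (Curv2.euler k Z) fun _ hS h₁ h₂ h₃ =>
    Groth.L03.Euler.euler_add hS (Groth.L16.NegPow.isCoh_of_isFinLocFree h₁)
      (Groth.L16.NegPow.isCoh_of_isFinLocFree h₂) (Groth.L16.NegPow.isCoh_of_isFinLocFree h₃)

theorem eulerHom_cl {Z : Scheme.{u}} [Z.Over Pt] [IsProper (Z ↘ Pt)] {M : Z.Modules} (hM : FlatMod.IsFinLocFree M) :
    eulerHom k Z (_root_.KRR.cl Z M) = Curv2.euler k Z M :=
  Groth.L29.KSub.lift_clSub _ _ hM

/-- The Euler characteristic of a finite resolution. -/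
theorem euler_resolution {Z : Scheme.{u}} [Z.Over Pt] [IsProper (Z ↘ Pt)] {A : Z.Modules} {m : ℕ} {L : ChainComplex Z.Modules ℕ}
    {π : L ⟶ (ChainComplex.single₀ Z.Modules).obj A} (hL : _root_.KRR.IsLFRes A m L π) :
    Curv2.euler k Z A = ∑ q ∈ Finset.range (m + 1), (-1 : ℤ) ^ q • eulerHom k Z (_root_.KRR.cl Z (L.X q)) := by
  haveI : IsLocallyNoetherian Z := LocallyOfFiniteType.isLocallyNoetherian (Z ↘ Pt)
  haveI : CompactSpace Z := QuasiCompact.compactSpace_of_compactSpace (Z ↘ Pt)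
  haveI : IsNoetherian Z := {}
  let χ : KZero.K0sub (fun M : Z.Modules => Groth.L12.KRes.CohPd M) →+ ℤ :=
    Groth.L29.KSub.lift (Curv2.euler k Z) fun _ hS h₁ h₂ h₃ => Groth.L03.Euler.euler_add hS h₁.1 h₂.1 h₃.1
  have hvb : ∀ {M : Z.Modules}, FlatMod.IsFinLocFree M → Groth.L12.KRes.CohPd M := fun h =>
    ⟨(Groth.L12.KRes.vb_iff.1 h).1, 0, (Groth.L12.KRes.vb_iff.1 h).2⟩
  have h := congrArg χ (Groth.L12.KRes.cl_isLFRes hL)
  rw [Groth.L29.KSub.lift_clSub _ _ (Groth.L12.KRes.cohPd_of_isLFRes hL), map_sum] at h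
  refine h.trans (Finset.sum_congr rfl fun q _ => ?_)
  rw [map_zsmul, Groth.L29.KSub.lift_clSub _ _ (hvb (hL.finLocFree q)), eulerHom_cl k (hL.finLocFree q)]

/-- On the point the Euler characteristic is the rank. -/
theorem aug_eq_euler {K : Type v} [CommRing K] [LambdaRing.LambdaOps K] {P : LambdaRing.PosStructure K}
    {φ : SGA6.Kvb Pt →+ K} (hK : _root_.KRR.IsModel Pt K P φ) {M : (Pt).Modules} (hM : FlatMod.IsFinLocFree M) :
    letI : (Pt).Over Pt := ⟨𝟙 _⟩
    P.aug (φ (_root_.KRR.cl Pt M)) = Curv2.euler k Pt M := by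
  letI : (Pt).Over Pt := ⟨𝟙 _⟩
  haveI : IsProper (Pt ↘ Pt) := inferInstanceAs (IsProper (𝟙 Pt))
  haveI : Subsingleton ↥(Pt) := inferInstanceAs (Subsingleton (PrimeSpectrum k))
  haveI : Nonempty ↥(Pt) := inferInstanceAs (Nonempty (PrimeSpectrum k))
  haveI : PreconnectedSpace ↥(Pt) := inferInstance
  haveI : ConnectedSpace ↥(Pt) := ⟨inferInstance⟩
  obtain ⟨r, hr⟩ := Groth.L18.KRRAmple.exists_rank hM
  obtain ⟨e⟩ := Groth.L12.IntSh.Pos.nonempty_iso_freeMod_of_point hr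
  have hfree := Groth.L18.KRRAmple.isFinLocFree_freeMod (X := Pt) r
  have hcl : _root_.KRR.cl Pt M = r • _root_.KRR.cl Pt (Coh.structureModule Pt) := by
    rw [Groth.L12.Kvb.cl_iso e hM]
    refine hK.bijective.1 ?_
    rw [Groth.L18.KRRAmple.phi_freeMod hK, map_nsmul, hK.map_one, nsmul_one]
  have h1 : Curv2.euler k Pt (Coh.structureModule Pt) = 1 := by
    refine (Groth.L03.BlowPt.euler_Spec_field (k := k) k ?_).trans (by simp)
    show 𝟙 Pt = _
    simp
  rw [hK.aug_cl r M hr, ← eulerHom_cl k hM, hcl, map_nsmul, eulerHom_cl k Groth.L12.Kvb.isFinLocFree_O, h1,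
    nsmul_one]

/-- `ε ∘ p_K` is the Euler characteristic. -/
theorem aug_pushPr (n : ℕ) {KP : Type v} [CommRing KP] {φP : SGA6.Kvb (_root_.KRR.PY n Pt) →+ KP}
    {KY : Type v} [CommRing KY] [LambdaRing.LambdaOps KY] {PY : LambdaRing.PosStructure KY}
    {φY : SGA6.Kvb Pt →+ KY} (hKY : _root_.KRR.IsModel Pt KY PY φY) {b : KP →+ KY}
    (hb : _root_.KRR.IsPushPr n Pt φP φY b) (z : SGA6.Kvb (_root_.KRR.PY n Pt)) :
    haveI : IsProper (_root_.KRR.PY n Pt ↘ Pt) := Groth.L16.ProjSpace.isProper_toBase n Pt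
    PY.aug (b (φP z)) = eulerHom k (_root_.KRR.PY n Pt) z := by
  haveI : IsProper (_root_.KRR.PY n Pt ↘ Pt) := Groth.L16.ProjSpace.isProper_toBase n Pt
  haveI : IsProper (_root_.KRR.pr n Pt) := Groth.L16.ProjSpace.isProper_toBase n Pt
  haveI : IsNoetherian (_root_.KRR.PY n Pt) := Groth.L12.KRes.isNoetherian_PY n Pt
  letI : (Pt).Over Pt := ⟨𝟙 _⟩
  suffices h : (PY.aug.toAddMonoidHom.comp (b.comp φP)) = eulerHom k (_root_.KRR.PY n Pt) from
    DFunLike.congr_fun h z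
  refine Groth.L12.KReg.hom_ext_regular n Pt fun F hF hreg => ?_
  haveI := Groth.L29.DC.PCQCoh.isQCoh_of_isFinLocFree hF
  haveI := Groth.L17.PushQCoh.hasInjectiveResolutions (_root_.KRR.PY n Pt)
  show PY.aug (b (φP _)) = _
  rw [hb F hF hreg, eulerHom_cl k hF,
    aug_eq_euler k hKY (Groth.L12.PushFree.isFinLocFree_push_regular n Pt hF hreg)]
  refine Groth.L22.Inter.euler_push_of_acyclic k (_root_.KRR.pr n Pt) (Category.comp_id _) F fun q => ?_
  obtain ⟨e⟩ := Groth.L17.nonempty_toAb_Rpush_iso (_root_.KRR.pr n Pt) F (q + 1)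
  exact Groth.L17.PushQCoh.isZero_of_toAb
    ((Groth.L22.Reg.vpush_of_regular hreg (q + 1) (Nat.le_add_left 1 q)).of_iso e)

/-- `ε ∘ f_K` is the Euler characteristic. -/
theorem aug_push (n : ℕ) {X : Scheme.{u}} [X.Over Pt] (i : X ⟶ _root_.KRR.PY n Pt)
    (hi : Mor2.IsRegularClosedImmersion i) (hfac : i ≫ _root_.KRR.pr n Pt = X ↘ Pt)
    {KX : Type v} [CommRing KX] {φX : SGA6.Kvb X →+ KX}
    {KP : Type v} [CommRing KP] {φP : SGA6.Kvb (_root_.KRR.PY n Pt) →+ KP}
    {KY : Type v} [CommRing KY] [LambdaRing.LambdaOps KY] {PY : LambdaRing.PosStructure KY}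
    {φY : SGA6.Kvb Pt →+ KY} (hKY : _root_.KRR.IsModel Pt KY PY φY)
    {a : KX →+ KP} (ha : _root_.KRR.IsPushCl i φX φP a) {b : KP →+ KY}
    (hb : _root_.KRR.IsPushPr n Pt φP φY b) {E : X.Modules} (hE : FlatMod.IsFinLocFree E) :
    PY.aug (b (a (φX (_root_.KRR.cl X E)))) = Curv2.euler k X E := by
  haveI : IsProper (_root_.KRR.PY n Pt ↘ Pt) := Groth.L16.ProjSpace.isProper_toBase n Pt
  haveI : IsNoetherian (_root_.KRR.PY n Pt) := Groth.L12.KRes.isNoetherian_PY n Pt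
  haveI : (_root_.KRR.PY n Pt).IsSeparated :=
    ⟨by rw [← terminal.comp_from (_root_.KRR.PY n Pt ↘ Pt)]; infer_instance⟩
  haveI := hi.1
  haveI : IsLocallyNoetherian X := LocallyOfFiniteType.isLocallyNoetherian i
  haveI : CompactSpace X := QuasiCompact.compactSpace_of_compactSpace i
  haveI : IsNoetherian X := {}
  have hPq : _root_.KRR.IsQProjOver (_root_.KRR.pr n Pt) :=
    ⟨n, 𝟙 _, inferInstance, Category.id_comp _⟩
  have hPe := Groth.L12.RR.hasEnough_of_ample (Groth.L12.RR.exists_ample_of_qproj hPq)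
  obtain ⟨m, L, π, hL⟩ := Groth.L12.KRes.hasLFRes_of_cohPd hPe (Groth.L12.KRes.cohPd_push (f := i) hi hPe hE)
  rw [ha E hE m L π hL, map_sum, map_sum,
    ← Groth.L03.Euler.euler_push (k := k) i E (Groth.L16.NegPow.isCoh_of_isFinLocFree hE).1 hfac]
  refine Eq.trans ?_ (euler_resolution k hL).symm
  refine Finset.sum_congr rfl fun q _ => ?_
  rw [map_zsmul, map_zsmul, aug_pushPr k n hKY hb]

end Groth.L12.RR.GRR
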