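import Groth.Agent.L15.PnHodge.Euler
import Groth.Agent.L12.RR.GRR.Adams
import Groth.Agent.L13.Canon.Conormal
import Groth.Agent.L16.ProjSpace.Basic
import Groth.Agent.L22.Reg.Rel
import Groth.Agent.S9711
import Groth.Agent.S9386
import Groth.Agent.S9371

/-!
# The tangent element of a projective local complete intersection morphism
-/

set_option autoImplicit false
set_option maxHeartbeats 400000
set_option linter.style.haveILetI false
set_option linter.unusedSectionVars false
set_option backward.isDefEq.respectTransparency false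
set_option backward.isDefEq.respectTransparency.types false

universe u

open CategoryTheory CategoryTheory.Limits AlgebraicGeometry

attribute [local instance] HasDerivedCategory.standard

noncomputable section

namespace Groth.L12.RR.GRR

open Groth.L12.KBunQ Groth.L12.RR
open Groth.L12.Kvb (KR toKR)

local notation "Dl" => RefHull.dual

variable {X Y : Scheme.{u}}

/-- Forgetting the ring structure. -/
def ofKR (X : Scheme.{u}) : KR X →+ SGA6.Kvb X where
  toFun x := x
  map_zero' := rfl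
  map_add' _ _ := rfl

theorem ofKR_kc (M : X.Modules) : ofKR X (kc X M) = _root_.KRR.cl X M := rfl

/-- Dualising bundles on `K`. -/
theorem exists_dualK (X : Scheme.{u}) :
    ∃ D : KR X →+ KR X, ∀ M : X.Modules, FlatMod.IsFinLocFree M → D (kc X M) = kc X (Dl M) := by
  let f : SGA6.Kvb X →+ KR X := Groth.L29.KSub.lift (P := _root_.KRR.vbP X) (fun M => kc X (Dl M))
    fun S hS h₁ h₂ h₃ => by
      obtain ⟨T, hT, ⟨t₁⟩, ⟨t₂⟩, ⟨t₃⟩⟩ := Groth.L12.DualVb.exists_dual_shortExact hS h₁ h₂ h₃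
      have d₁ := Groth.L29.LocFree.of_iso t₁.symm (Groth.L12.DualVb.isFinLocFree_dual h₃)
      have d₂ := Groth.L29.LocFree.of_iso t₂.symm (Groth.L12.DualVb.isFinLocFree_dual h₂)
      have d₃ := Groth.L29.LocFree.of_iso t₃.symm (Groth.L12.DualVb.isFinLocFree_dual h₁)
      show kc X (Dl S.X₂) = kc X (Dl S.X₁) + kc X (Dl S.X₃)
      rw [← kc_iso t₂ d₂, kc_shortExact hT d₁ d₂ d₃, kc_iso t₁ d₁, kc_iso t₃ d₃, add_comm]
  refine ⟨f.comp (ofKR X), fun M hM => ?_⟩
  rw [AddMonoidHom.comp_apply, ofKR_kc]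
  exact Groth.L29.KSub.lift_clSub (P := _root_.KRR.vbP X) (fun M => kc X (Dl M)) _ hM

/-- The class of the differentials of projective space over the integers. -/
theorem kc_omega_projSpace (n : ℕ) [QuasiSeparated (CohB1.ProjSpace.toSpec n (ULift.{u} ℤ))] :
    kc (CohB1.ProjSpace n (ULift.{u} ℤ)) (Omega.sheaf (CohB1.ProjSpace.toSpec n (ULift.{u} ℤ))) *
        kc _ (Twist.twistProjSpace n (ULift.{u} ℤ) 1) + kc _ (Twist.twistProjSpace n (ULift.{u} ℤ) 1) =
      ((n + 1 : ℕ) : KR (CohB1.ProjSpace n (ULift.{u} ℤ))) := by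
  let R := ULift.{u} ℤ
  haveI : IsDomain R := (ULift.ringEquiv : R ≃+* ℤ).toMulEquiv.isDomain ℤ
  haveI : IrreducibleSpace ↥(Spec (CommRingCat.of R)) :=
    inferInstanceAs (IrreducibleSpace (PrimeSpectrum R))
  haveI : ConnectedSpace ↥(Spec (CommRingCat.of R)) := inferInstance
  have hfree := Groth.L18.KRRAmple.isFinLocFree_freeMod (X := Spec (CommRingCat.of R)) (n + 1)
  have hP := Groth.L29.LocFree.pullback (CohB1.ProjSpace.toSpec n R) hfree
  have hΩ : FlatMod.IsFinLocFree (Omega.sheaf (CohB1.ProjSpace.toSpec n R)) :=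
    Groth.L18.KRRAmple.isFinLocFree_of_rank (Groth.L02.Canon.isFinLocFreeOfRank_omega n)
  have hL : FlatMod.IsFinLocFree (Groth.L15.PnHodge.L1 n R) :=
    Groth.L16.Existence.isFinLocFree_of_isInvertible (Groth.L16.ProjTwist.isInvertible_twistProjSpace n R _)
  obtain ⟨k⟩ := Groth.L15.PnHodge.nonempty_kernel_iso n R
  have ht := Groth.L29.DC.isFinLocFree_tensor hΩ hL
  have hk : FlatMod.IsFinLocFree (kernel (Groth.L15.PnHodge.eulerU n R)) := Groth.L29.LocFree.of_iso k ht
  have h := kc_shortExact (Groth.L15.PnHodge.eulerSeq_shortExact n R) hk hP hL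
  refine Eq.trans ?_ (h.symm.trans ?_)
  · show _ = kc _ (kernel (Groth.L15.PnHodge.eulerU n R)) + kc _ (Groth.L15.PnHodge.L1 n R)
    rw [← kc_iso k ht, kc_tensor hΩ hL]
    rfl
  · show kc _ ((Scheme.Modules.pullback (CohB1.ProjSpace.toSpec n R)).obj (FlatMod.freeMod _ (n + 1))) = _
    rw [← pull_kc _ hfree, show kc _ (FlatMod.freeMod (Spec (CommRingCat.of R)) (n + 1)) =
      ((n + 1 : ℕ) : KR (Spec (CommRingCat.of R))) from
        Groth.L18.KRRAmple.phi_freeMod Groth.L12.Kvb.isModel _, map_natCast]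

theorem kc_twist_inv (n : ℕ) (Y : Scheme.{u}) :
    kc (_root_.KRR.PY n Y) (Twist.twistOver n Y (-1)) * kc (_root_.KRR.PY n Y) (Twist.twistOver n Y 1) = 1 := by
  obtain ⟨e⟩ := Groth.L22.Reg.nonempty_OT_add n Y (show (-1 : ℤ) + 1 = 0 by norm_num)
  obtain ⟨e0⟩ := Groth.L22.Reg.nonempty_OT_zero n Y
  exact kc_inverse (Groth.L17.Strat.isInvertible_twistOver n Y (-1)) (Groth.L17.Strat.isInvertible_twistOver n Y 1)
    ⟨e ≪≫ e0⟩

/-- The class of the differentials of projective space over a base. -/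
theorem kc_omega (n : ℕ) (Y : Scheme.{u}) [QuasiSeparated (_root_.KRR.pr n Y)] :
    kc (_root_.KRR.PY n Y) (Omega.sheaf (_root_.KRR.pr n Y)) =
      ((n + 1 : ℕ) : KR (_root_.KRR.PY n Y)) * kc _ (Twist.twistOver n Y (-1)) - 1 := by
  let R := ULift.{u} ℤ
  haveI : QuasiSeparated (CohB1.ProjSpace.toSpec n R) := inferInstance
  let z := Groth.L22.Reg.toZ n Y
  have hd := Groth.L19.OmegaSh.isUniversal_dOmega (f := CohB1.ProjSpace.toSpec n R)
  have hd' := Groth.L19.OmegaSh.isUniversal_dOmega (f := _root_.KRR.pr n Y)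
  have hsq : IsPullback z (_root_.KRR.pr n Y) (CohB1.ProjSpace.toSpec n R)
      (specULiftZIsTerminal.from Y) := IsPullback.of_hasPullback _ _
  obtain ⟨c, hc, -⟩ := Groth.L19.OmegaSh.existsUnique_diffCompat z (specULiftZIsTerminal.from Y) hsq.w.symm hd
    (OmegaSh.dOmega (_root_.KRR.pr n Y))
  haveI := Groth.Agent.S9386.result _ _ z _ hsq _ _ hd _ _ hd' c hc
  have hΩ : FlatMod.IsFinLocFree (Omega.sheaf (CohB1.ProjSpace.toSpec n R)) :=
    Groth.L18.KRRAmple.isFinLocFree_of_rank (Groth.L02.Canon.isFinLocFreeOfRank_omega n)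
  have hL : FlatMod.IsFinLocFree (Twist.twistProjSpace n R 1) :=
    Groth.L16.Existence.isFinLocFree_of_isInvertible (Groth.L16.ProjTwist.isInvertible_twistProjSpace n R _)
  have h := congrArg (pull z) (kc_omega_projSpace.{u} n)
  rw [map_add, map_mul, pull_kc _ hΩ, pull_kc _ hL, map_natCast,
    kc_iso (asIso c) (Groth.L29.LocFree.pullback _ hΩ)] at h
  have hh : kc _ (Omega.sheaf (_root_.KRR.pr n Y)) * kc _ (Twist.twistOver n Y 1) +
      kc _ (Twist.twistOver n Y 1) = ((n + 1 : ℕ) : KR (_root_.KRR.PY n Y)) := h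
  linear_combination (kc (_root_.KRR.PY n Y) (Twist.twistOver n Y (-1))) * hh
    - (kc (_root_.KRR.PY n Y) (Omega.sheaf (_root_.KRR.pr n Y)) + 1) * kc_twist_inv n Y

/-- The conormal class of an immersion lifted to a smooth base change. -/
theorem kc_conormal_lift {Z Z' T : Scheme.{u}} (g : Z ⟶ Y) (g' : Z' ⟶ Y) (p : T ⟶ Z) (p' : T ⟶ Z')
    (sq : IsPullback p p' g g') (k : X ⟶ T) (i : X ⟶ Z) (i' : X ⟶ Z') (hk : k ≫ p = i) (hk' : k ≫ p' = i')
    [IsImmersion i] [IsImmersion k] [QuasiCompact i] [QuasiCompact k] [QuasiSeparated g']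
    {c n' : ℕ} [SmoothOfRelativeDimension n' g'] (hC : FlatMod.IsFinLocFreeOfRank c (Omega.conormal i)) :
    kc X (Omega.conormal k) = kc X (Omega.conormal i) + pull i' (kc Z' (Omega.sheaf g')) := by
  haveI := smoothOfRelativeDimension_isStableUnderBaseChange (n := n')
  haveI : SmoothOfRelativeDimension n' p :=
    MorphismProperty.of_isPullback (P := @SmoothOfRelativeDimension n') sq.flip inferInstance
  haveI : Smooth p := SmoothOfRelativeDimension.smooth n' p
  haveI : QuasiSeparated p := MorphismProperty.of_isPullback (P := @QuasiSeparated) sq.flip inferInstance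
  obtain ⟨ψ, hψ, -⟩ := Groth.Agent.S9371.result k i p (𝟙 X) ((Category.id_comp i).trans hk.symm)
  obtain ⟨φ, hφ⟩ := Groth.L19.OmegaSh.exists_conormalDiff k (OmegaSh.dOmega p)
  obtain ⟨w, hse⟩ := Groth.Agent.S9711.result p k i hk _ _ (Groth.L19.OmegaSh.isUniversal_dOmega (f := p)) ψ hψ φ hφ
  have hA : FlatMod.IsFinLocFreeOfRank c ((Scheme.Modules.pullback (𝟙 X)).obj (Omega.conormal i)) :=
    Groth.L12.StabLimit.isFinLocFreeOfRank_pullback (𝟙 X) hC
  have hΩp := Groth.L02.Canon.isFinLocFreeOfRank_omega (f := p) n'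
  have hΩg := Groth.L02.Canon.isFinLocFreeOfRank_omega (f := g') n'
  have hB : FlatMod.IsFinLocFreeOfRank n' ((Scheme.Modules.pullback k).obj (Omega.sheaf p)) :=
    Groth.L12.StabLimit.isFinLocFreeOfRank_pullback k hΩp
  have hF := Groth.L13.Canon.isFinLocFreeOfRank_middle hse hA hB
  obtain ⟨b, hb, -⟩ := Groth.L19.OmegaSh.existsUnique_diffCompat p' g sq.w
    (Groth.L19.OmegaSh.isUniversal_dOmega (f := g')) (OmegaSh.dOmega p)
  haveI := Groth.Agent.S9386.result g' g p' p sq.flip _ _ (Groth.L19.OmegaSh.isUniversal_dOmega (f := g')) _ _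
    (Groth.L19.OmegaSh.isUniversal_dOmega (f := p)) b hb
  have h := kc_shortExact hse (Groth.L18.KRRAmple.isFinLocFree_of_rank hA) (Groth.L18.KRRAmple.isFinLocFree_of_rank hF)
    (Groth.L18.KRRAmple.isFinLocFree_of_rank hB)
  refine h.trans ?_
  refine congrArg₂ (· + ·) (kc_iso ((Scheme.Modules.pullbackId X).app _) (Groth.L18.KRRAmple.isFinLocFree_of_rank hA)) ?_
  have hg := Groth.L18.KRRAmple.isFinLocFree_of_rank hΩg
  show kc X ((Scheme.Modules.pullback k).obj (Omega.sheaf p)) = _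
  rw [← pull_kc _ (Groth.L18.KRRAmple.isFinLocFree_of_rank hΩp),
    ← kc_iso (asIso b) (Groth.L29.LocFree.pullback _ hg), ← pull_kc _ hg, ← pull_comp, hk']

/-- The tangent element does not depend on the factorisation. -/
theorem tangent_indep {n m : ℕ} [CompactSpace X] (f : X ⟶ Y) (i₁ : X ⟶ _root_.KRR.PY n Y) [IsClosedImmersion i₁]
    (hf₁ : i₁ ≫ _root_.KRR.pr n Y = f) {c₁ : ℕ} (hC₁ : FlatMod.IsFinLocFreeOfRank c₁ (Omega.conormal i₁))
    (i₂ : X ⟶ _root_.KRR.PY m Y) [IsClosedImmersion i₂]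
    (hf₂ : i₂ ≫ _root_.KRR.pr m Y = f) {c₂ : ℕ} (hC₂ : FlatMod.IsFinLocFreeOfRank c₂ (Omega.conormal i₂)) :
    ((n + 1 : ℕ) : KR X) * kc X (oneLine n i₁) - 1 - kc X (Dl (Omega.conormal i₁)) =
      ((m + 1 : ℕ) : KR X) * kc X (oneLine m i₂) - 1 - kc X (Dl (Omega.conormal i₂)) := by
  haveI : IsProper (_root_.KRR.pr n Y) := Groth.L16.ProjSpace.isProper_toBase n Y
  haveI : IsProper (_root_.KRR.pr m Y) := Groth.L16.ProjSpace.isProper_toBase m Y
  haveI : SmoothOfRelativeDimension n (_root_.KRR.pr n Y) := Groth.L16.ProjSpace.smoothOfRelativeDimension_toBase n Y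
  haveI : SmoothOfRelativeDimension m (_root_.KRR.pr m Y) := Groth.L16.ProjSpace.smoothOfRelativeDimension_toBase m Y
  let g₁ := _root_.KRR.pr n Y
  let g₂ := _root_.KRR.pr m Y
  let k : X ⟶ pullback g₁ g₂ := pullback.lift i₁ i₂ (hf₁.trans hf₂.symm)
  have hk₁ : k ≫ pullback.fst g₁ g₂ = i₁ := pullback.lift_fst _ _ _
  have hk₂ : k ≫ pullback.snd g₁ g₂ = i₂ := pullback.lift_snd _ _ _
  haveI : IsImmersion (k ≫ pullback.fst g₁ g₂) := hk₁.symm ▸ inferInstance
  haveI : IsImmersion k := IsImmersion.of_comp k (pullback.fst g₁ g₂)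
  haveI : QuasiCompact (k ≫ pullback.fst g₁ g₂) := hk₁.symm ▸ inferInstance
  haveI : QuasiSeparated (pullback.fst g₁ g₂) :=
    MorphismProperty.pullback_fst (P := @QuasiSeparated) _ _ inferInstance
  haveI : QuasiCompact k := QuasiCompact.of_comp k (pullback.fst g₁ g₂)
  have h1 := kc_conormal_lift g₁ g₂ _ _ (IsPullback.of_hasPullback g₁ g₂) k i₁ i₂ hk₁ hk₂ (n' := m) hC₁
  have h2 := kc_conormal_lift g₂ g₁ _ _ (IsPullback.of_hasPullback g₁ g₂).flip k i₂ i₁ hk₂ hk₁ (n' := n) hC₂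
  have key := h1.symm.trans h2
  rw [kc_omega, kc_omega, map_sub, map_sub, map_mul, map_mul, map_natCast, map_natCast, map_one, map_one] at key
  obtain ⟨D, hD⟩ := exists_dualK X
  have hline : ∀ (j : ℕ) (i : X ⟶ _root_.KRR.PY j Y),
      D (((j + 1 : ℕ) : KR X) * pull i (kc _ (Twist.twistOver j Y (-1)))) =
        ((j + 1 : ℕ) : KR X) * kc X (oneLine j i) := fun j i => by
    have hm := Groth.L17.Strat.isInvertible_twistOver j Y (-1)
    have hp := Groth.L17.Strat.isInvertible_twistOver j Y 1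
    have hv := Groth.L16.Existence.isFinLocFree_of_isInvertible hm
    rw [← nsmul_eq_mul, map_nsmul, nsmul_eq_mul, pull_kc _ hv, hD _ (Groth.L29.LocFree.pullback i hv)]
    congr 1
    have a := kc_dual_mul (Groth.L18.KRRAmple.isRankOne_of_isInvertible (Groth.L18.Ample.isInvertible_pullback i hm))
    have b := congrArg (pull i) (kc_twist_inv j Y)
    rw [map_mul, map_one, pull_kc _ hv, pull_kc _ (Groth.L16.Existence.isFinLocFree_of_isInvertible hp)] at b
    exact left_inv_eq_right_inv a b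
  have hone : D 1 = 1 := by
    have h := hD (Coh.structureModule X) Groth.L12.Kvb.isFinLocFree_O
    have hr := Groth.L18.KRRAmple.isRankOne_of_isInvertible (Groth.L18.Ample.isInvertible_structureModule X)
    have a := kc_dual_mul hr
    rw [kc_one, mul_one] at a
    rw [← kc_one]
    exact h.trans a
  have hd := congrArg D key
  rw [map_add, map_add, map_sub, map_sub, hD _ (Groth.L18.KRRAmple.isFinLocFree_of_rank hC₁),
    hD _ (Groth.L18.KRRAmple.isFinLocFree_of_rank hC₂), hline, hline, hone] at hd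
  linear_combination -hd

end Groth.L12.RR.GRR
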