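import Groth.Agent.L15.ToddTop.Core
import Mathlib.Algebra.Algebra.Rat
import Mathlib.Algebra.Algebra.Hom.Rat
import Mathlib.LinearAlgebra.Dual.Lemmas
import Mathlib.RingTheory.PowerSeries.Order

/-!
# Multiplicativity of the Todd polynomials
-/

set_option autoImplicit false
set_option maxHeartbeats 800000
set_option linter.style.haveILetI false
set_option linter.unusedSectionVars false

universe u v

noncomputable section

namespace Groth.L12.RR.GRR

open Groth.L15.ToddTop (Φ tdP Φ_congr mk_aeval aeval_eq_of_coeff ev w_pow todd_restrict Φ_es es)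
open Finset

variable {B : Type u} [CommRing B] [Algebra ℚ B]

/-- The truncated Todd series at a point. -/
def beta (D : ℕ) (x : B) : B := Polynomial.aeval x (KGr.toddTrunc D)

/-- The Todd polynomial at a sequence. -/
def TD (D : ℕ) (a : ℕ → B) : B := MvPolynomial.aeval (fun i : Fin D => a ((i : ℕ) + 1)) (KGr.toddPoly D)

theorem map_TD {C : Type v} [CommRing C] [Algebra ℚ C] (f : B →+* C) (D : ℕ) (a : ℕ → B) :
    f (TD D a) = TD D fun i => f (a i) :=
  MvPolynomial.comp_aeval_apply (R := ℚ) (fun i : Fin D => a ((i : ℕ) + 1)) f.toRatAlgHom (KGr.toddPoly D)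

theorem map_beta {C : Type v} [CommRing C] [Algebra ℚ C] (f : B →+* C) (D : ℕ) (x : B) :
    f (beta D x) = beta D (f x) :=
  (Polynomial.aeval_algHom_apply f.toRatAlgHom x _).symm

theorem coeff_toddTrunc (D k : ℕ) :
    (KGr.toddTrunc D).coeff k = if k ≤ D then bernoulli' k / (k.factorial : ℚ) else 0 := by
  simp [KGr.toddTrunc, Polynomial.finsetSum_coeff, Polynomial.coeff_C_mul_X_pow, Finset.sum_ite_eq]

theorem beta_congr {D N : ℕ} (h : D ≤ N) {x : B} (hx : x ^ (D + 1) = 0) : beta N x = beta D x :=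
  aeval_eq_of_coeff hx fun j hj => by rw [coeff_toddTrunc, coeff_toddTrunc, if_pos (hj.trans h), if_pos hj]

theorem TD_eq_Φ (D : ℕ) (a : ℕ → B) : TD D a = Φ D a (tdP D D) :=
  todd_restrict D D a 0 (add_zero D) _ fun i => by rw [if_pos i.2]

/-- Stability of the Todd polynomial in the truncation. -/
theorem TD_stable {D N : ℕ} (hDN : D ≤ N) (a : ℕ → B) (ha : ∀ i, D < i → a i = 0)
    (hkill : ∀ m : Fin D →₀ ℕ, D < Groth.L15.ToddTop.wt D m → ∏ i : Fin D, a ((i : ℕ) + 1) ^ m i = 0) :
    TD N a = TD D a := by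
  rw [TD_eq_Φ D a, TD, todd_restrict D N a (N - D) (by omega) _ fun i => ?_]
  · refine Φ_congr D D a hkill _ _ ?_
    simp only [tdP, map_prod, mk_aeval]
    refine Finset.prod_congr rfl fun i _ => ?_
    exact beta_congr hDN (w_pow D D i)
  · split_ifs with h
    · rfl
    · exact ha _ (by omega)

theorem esymm_mem {I : Ideal B} {s : Multiset B} (hs : ∀ x ∈ s, x ∈ I) (i : ℕ) : s.esymm i ∈ I ^ i := by
  rw [Multiset.esymm]
  refine multiset_sum_mem _ fun y hy => ?_
  obtain ⟨t, ht, rfl⟩ := Multiset.mem_map.1 hy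
  obtain ⟨hle, hcard⟩ := Multiset.mem_powersetCard.1 ht
  subst hcard
  clear ht hy
  induction t using Multiset.induction with
  | empty => simp
  | cons z t ih =>
    rw [Multiset.prod_cons, Multiset.card_cons, pow_succ']
    exact Ideal.mul_mem_mul (hs z (Multiset.mem_of_le hle (Multiset.mem_cons_self z t)))
      (ih ((Multiset.le_cons_self t z).trans hle))

theorem kill_of_mem {I : Ideal B} {D : ℕ} (hI : I ^ (D + 1) = ⊥) (r : ℕ) {a : ℕ → B}
    (ha : ∀ i, a i ∈ I ^ i) (m : Fin r →₀ ℕ) (hm : D < Groth.L15.ToddTop.wt r m) :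
    ∏ i : Fin r, a ((i : ℕ) + 1) ^ m i = 0 := by
  have h : ∏ i : Fin r, a ((i : ℕ) + 1) ^ m i ∈ I ^ Groth.L15.ToddTop.wt r m := by
    have h2 : ∏ i : Fin r, a ((i : ℕ) + 1) ^ m i ∈ ∏ i : Fin r, I ^ (m i * ((i : ℕ) + 1)) :=
      Ideal.prod_mem_prod fun i _ => by
        have := Ideal.pow_mem_pow (ha ((i : ℕ) + 1)) (m i)
        rwa [← pow_mul, mul_comm] at this
    rwa [Finset.prod_pow_eq_pow_sum] at h2
  have h3 := Ideal.pow_le_pow_right (show D + 1 ≤ _ from hm) h
  rwa [hI, Ideal.mem_bot] at h3

/-- The Todd polynomial of the elementary symmetric functions of roots. -/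
theorem TD_esymm {I : Ideal B} {D : ℕ} (hI : I ^ (D + 1) = ⊥) {s : Multiset B} (hs : ∀ x ∈ s, x ∈ I) :
    TD D (fun i => s.esymm i) = (s.map (beta D)).prod := by
  obtain ⟨r, v, rfl⟩ : ∃ (r : ℕ) (v : Fin r → B), (Finset.univ : Finset (Fin r)).val.map v = s := by
    induction s using Quotient.inductionOn with
    | h l => exact ⟨l.length, l.get, by simp [List.ofFn_get]⟩
  set a : ℕ → B := fun i => ((Finset.univ : Finset (Fin r)).val.map v).esymm i with ha
  have hmem : ∀ i, a i ∈ I ^ i := esymm_mem hs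
  have hz : ∀ i, D < i → a i = 0 := fun i hi => by
    have := Ideal.pow_le_pow_right (show D + 1 ≤ i from hi) (hmem i)
    rwa [hI, Ideal.mem_bot] at this
  set N := max r D with hN
  rw [← TD_stable (show D ≤ N from le_max_right _ _) a hz fun m hm => kill_of_mem hI D hmem m hm]
  have hr : ∀ i, r < i → a i = 0 := fun i hi => by
    show ((Finset.univ : Finset (Fin r)).val.map v).esymm i = 0
    rw [Multiset.esymm, Multiset.powersetCard_eq_empty _
      (show Multiset.card ((Finset.univ : Finset (Fin r)).val.map v) < i by simpa using hi), Multiset.map_zero,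
      Multiset.sum_zero]
  rw [TD, todd_restrict r N a (N - r) (by omega) _ fun i => by
    split_ifs with h
    · rfl
    · exact hr _ (by omega)]
  have hΦ : Φ r a = (MvPolynomial.aeval v).comp (Subalgebra.val _) := by
    have e : (Φ r a).comp (MvPolynomial.esymmAlgEquiv (Fin r) ℚ (Fintype.card_fin r)).toAlgHom =
        ((MvPolynomial.aeval v).comp (Subalgebra.val _)).comp
          (MvPolynomial.esymmAlgEquiv (Fin r) ℚ (Fintype.card_fin r)).toAlgHom := by
      refine MvPolynomial.algHom_ext fun i => ?_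
      show MvPolynomial.aeval _ ((MvPolynomial.esymmAlgEquiv (Fin r) ℚ (Fintype.card_fin r)).symm _) = _
      simp only [AlgEquiv.toAlgHom_apply, AlgEquiv.symm_apply_apply, MvPolynomial.aeval_X, AlgHom.comp_apply,
        MvPolynomial.esymmAlgEquiv_apply, Subalgebra.coe_val]
      rw [MvPolynomial.esymmAlgHom_apply]
      simp only [MvPolynomial.aeval_X, a]
      rw [MvPolynomial.aeval_esymm_eq_multiset_esymm]
      erw [AlgEquiv.symm_apply_apply]
      rw [MvPolynomial.aeval_X]
    refine AlgHom.ext fun z => ?_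
    obtain ⟨q, rfl⟩ := (MvPolynomial.esymmAlgEquiv (Fin r) ℚ (Fintype.card_fin r)).surjective z
    exact AlgHom.congr_fun e q
  rw [hΦ, AlgHom.comp_apply]
  show MvPolynomial.aeval v (∏ i : Fin r, Polynomial.aeval (MvPolynomial.X i) (KGr.toddTrunc N)) = _
  rw [map_prod, Multiset.map_map, Finset.prod_eq_multiset_prod]
  refine congrArg Multiset.prod (Multiset.map_congr rfl fun i _ => ?_)
  rw [← Polynomial.aeval_algHom_apply, MvPolynomial.aeval_X]
  refine beta_congr (le_max_right _ _) ?_
  have hv : v i ∈ I := hs _ (Multiset.mem_map.2 ⟨i, Finset.mem_univ i, rfl⟩)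
  have := Ideal.pow_mem_pow hv (D + 1)
  rwa [hI, Ideal.mem_bot] at this

/-- The binomial polynomial. -/
def bP (B : Type u) [CommRing B] [Algebra ℚ B] (k : ℕ) : Polynomial B :=
  (descPochhammer ℚ k * Polynomial.C (1 / (k.factorial : ℚ))).map (algebraMap ℚ B)

theorem eval_bP_nat (m k : ℕ) : (bP B k).eval (m : B) = (m.choose k : B) := by
  rw [bP, ← map_natCast (algebraMap ℚ B) m, Polynomial.eval_map, Polynomial.eval₂_at_apply,
    ← map_natCast (algebraMap ℚ B) (m.choose k), Nat.cast_choose_eq_descPochhammer_div]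
  simp [div_eq_mul_inv]

theorem eval_bP_neg_one (k : ℕ) : (bP B k).eval (-1 : B) = (-1) ^ k := by
  have h : ∀ j : ℕ, (descPochhammer ℚ j).eval (-1) = (-1) ^ j * (j.factorial : ℚ) := fun j => by
    induction j with
    | zero => simp
    | succ j ih => rw [descPochhammer_succ_eval, ih, Nat.factorial_succ]; push_cast; ring
  rw [bP, show (-1 : B) = algebraMap ℚ B (-1) by simp, Polynomial.eval_map, Polynomial.eval₂_at_apply,
    Polynomial.eval_mul, h, Polynomial.eval_C, ← map_pow]
  congr 1
  field_simp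

/-- A polynomial vanishing at every natural number is zero. -/
theorem poly_eq_zero {p : Polynomial B} (h : ∀ m : ℕ, p.eval (m : B) = 0) : p = 0 := by
  ext j
  rw [Polynomial.coeff_zero, ← Module.forall_dual_apply_eq_zero_iff ℚ]
  intro φ
  let q : Polynomial ℚ := ∑ i ∈ range (p.natDegree + 1), Polynomial.C (φ (p.coeff i)) * Polynomial.X ^ i
  have hq : q = 0 := by
    refine Polynomial.eq_zero_of_infinite_isRoot _
      ((Set.infinite_range_of_injective (Nat.cast_injective : Function.Injective (Nat.cast : ℕ → ℚ))).mono ?_)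
    rintro _ ⟨m, rfl⟩
    show q.eval (m : ℚ) = 0
    have := congrArg φ (h m)
    rw [Polynomial.eval_eq_sum_range, map_sum, map_zero] at this
    simp only [q, Polynomial.eval_finsetSum, Polynomial.eval_mul, Polynomial.eval_C, Polynomial.eval_pow,
      Polynomial.eval_X]
    refine (Finset.sum_congr rfl fun i _ => ?_).trans this
    rw [mul_comm (p.coeff i), ← Nat.cast_pow (α := B), ← nsmul_eq_mul, map_nsmul, nsmul_eq_mul, Nat.cast_pow, mul_comm]
  have := congrArg (fun r => Polynomial.coeff r j) hq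
  simp only [q, Polynomial.finsetSum_coeff, Polynomial.coeff_C_mul_X_pow, Finset.sum_ite_eq, mem_range,
    Polynomial.coeff_zero] at this
  split_ifs at this with hj
  · exact this
  · rw [Polynomial.coeff_eq_zero_of_natDegree_lt (by omega), map_zero]

theorem coeff_dvd {R : Type u} [CommRing R] {D k : ℕ} {p q : PowerSeries R} (h : PowerSeries.X ^ (D + 1) ∣ p - q)
    (hk : k ≤ D) : PowerSeries.coeff k p = PowerSeries.coeff k q := by
  have := PowerSeries.X_pow_dvd_iff.1 h k (by omega)
  rwa [map_sub, sub_eq_zero] at this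

/-- The series `Π (1 + x t)`. -/
def ser (s : Multiset B) : PowerSeries B := (s.map fun x => 1 + PowerSeries.C x * PowerSeries.X).prod

theorem coeff_ser (s : Multiset B) (i : ℕ) : PowerSeries.coeff i (ser s) = s.esymm i :=
  Groth.L22.Lambda.coeff_prod_one_add s i

theorem beta_sub_one_mem {I : Ideal B} {x : B} (hx : x ∈ I) (D : ℕ) : beta D x - 1 ∈ I := by
  have hX : Polynomial.X ∣ KGr.toddTrunc D - 1 := by
    rw [Polynomial.X_dvd_iff, Polynomial.coeff_sub, coeff_toddTrunc]
    simp
  obtain ⟨c, hc⟩ := hX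
  rw [beta, ← map_one (Polynomial.aeval (R := ℚ) x), ← map_sub, hc, map_mul, Polynomial.aeval_X]
  exact I.mul_mem_right _ hx

theorem prod_beta_sub_one_mem {I : Ideal B} {s : Multiset B} (hs : ∀ x ∈ s, x ∈ I) (D : ℕ) :
    (s.map (beta D)).prod - 1 ∈ I := by
  rw [← Ideal.Quotient.eq, map_multiset_prod, map_one, Multiset.map_map]
  refine Multiset.prod_eq_one fun y hy => ?_
  obtain ⟨x, hx, rfl⟩ := Multiset.mem_map.1 hy
  rw [Function.comp_apply, ← map_one (Ideal.Quotient.mk I), Ideal.Quotient.eq]
  exact beta_sub_one_mem (hs x hx) D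

theorem isUnit_prod_beta {I : Ideal B} {D : ℕ} (hI : I ^ (D + 1) = ⊥) {s : Multiset B} (hs : ∀ x ∈ s, x ∈ I) :
    IsUnit (s.map (beta D)).prod := by
  have h : IsNilpotent ((s.map (beta D)).prod - 1) := ⟨D + 1, by
    have := Ideal.pow_mem_pow (prod_beta_sub_one_mem hs D) (D + 1)
    rwa [hI, Ideal.mem_bot] at this⟩
  simpa using h.isUnit_one_add

/-- The Todd polynomial turns quotients of roots into quotients. -/
theorem TD_ratio {I : Ideal B} {D : ℕ} (hI : I ^ (D + 1) = ⊥) {l e : Multiset B} (hl : ∀ x ∈ l, x ∈ I)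
    (he : ∀ x ∈ e, x ∈ I) (a : ℕ → B)
    (h : ∀ k ≤ D, PowerSeries.coeff k (PowerSeries.mk a * ser e) = l.esymm k) :
    TD D a * (e.map (beta D)).prod = (l.map (beta D)).prod := by
  set L := ser l
  set F := ser e - 1 with hF
  have hF0 : PowerSeries.X ∣ F := by
    rw [PowerSeries.X_dvd_iff, hF, map_sub, map_one, sub_eq_zero, ← PowerSeries.coeff_zero_eq_constantCoeff_apply,
      coeff_ser]
    simp [Multiset.esymm]
  have hFk : ∀ k, D < k → PowerSeries.X ^ (D + 1) ∣ F ^ k := fun k hk =>
    (pow_dvd_pow PowerSeries.X (show D + 1 ≤ k from hk)).trans (pow_dvd_pow_of_dvd hF0 k)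
  set Bl := (l.map (beta D)).prod
  set N := (e.map (beta D)).prod - 1 with hNdef
  have hN : ∀ k, D < k → N ^ k = 0 := fun k hk => by
    have := Ideal.pow_le_pow_right (show D + 1 ≤ k from hk) (Ideal.pow_mem_pow (prod_beta_sub_one_mem he D) k)
    rwa [hI, Ideal.mem_bot] at this
  let cI : ℕ → Polynomial B := fun i =>
    ∑ k ∈ range (D + 1), bP B k * Polynomial.C (PowerSeries.coeff i (L * F ^ k))
  let R : Polynomial B := Polynomial.C Bl * ∑ k ∈ range (D + 1), bP B k * Polynomial.C (N ^ k)
  have key : TD D cI = R := by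
    rw [← sub_eq_zero]
    refine poly_eq_zero fun m => ?_
    rw [Polynomial.eval_sub, sub_eq_zero]
    have hev := map_TD (Polynomial.evalRingHom (m : B)) D cI
    rw [Polynomial.coe_evalRingHom] at hev
    rw [hev]
    have hroots : ∀ x ∈ l + m • e, x ∈ I := fun x hx => by
      rcases Multiset.mem_add.1 hx with hx | hx
      · exact hl x hx
      · exact he x (Multiset.mem_of_mem_nsmul hx)
    have hc : ∀ i ≤ D, (cI i).eval (m : B) = (l + m • e).esymm i := fun i hi => by
      have hs : ser (l + m • e) = L * (F + 1) ^ m := by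
        simp only [ser, L, F, Multiset.map_add, Multiset.map_nsmul, Multiset.prod_add, Multiset.prod_nsmul,
          sub_add_cancel]
      simp only [cI, Polynomial.eval_finsetSum, Polynomial.eval_mul, eval_bP_nat, Polynomial.eval_C]
      rw [← coeff_ser, hs, add_pow, Finset.mul_sum, map_sum]
      simp only [one_pow, mul_one]
      have e1 : ∀ k, PowerSeries.coeff i (L * (F ^ k * (m.choose k : PowerSeries B))) =
          (m.choose k : B) * PowerSeries.coeff i (L * F ^ k) := fun k => by
        rw [show L * (F ^ k * (m.choose k : PowerSeries B)) = (m.choose k) • (L * F ^ k) by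
          rw [nsmul_eq_mul]; ring, map_nsmul, nsmul_eq_mul]
      simp only [e1]
      refine (Finset.sum_subset (s₂ := range (D + m + 1)) (range_mono (by omega)) fun k _ hk => ?_).trans
        (Finset.sum_subset (range_mono (by omega)) fun k _ hk => ?_).symm
      · rw [PowerSeries.X_pow_dvd_iff.1 ((hFk k (by simp at hk; omega)).mul_left L) i (by omega), mul_zero]
      · rw [Nat.choose_eq_zero_of_lt (by simp at hk; omega), Nat.cast_zero, zero_mul]
    have hTD : TD D (fun i => (cI i).eval (m : B)) = TD D (fun i => (l + m • e).esymm i) := by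
      simp only [TD]
      refine congrArg (fun g => MvPolynomial.aeval g (KGr.toddPoly D)) (funext fun i => hc _ (by omega))
    rw [hTD, TD_esymm hI hroots]
    simp only [Multiset.map_add, Multiset.map_nsmul, Multiset.prod_add, Multiset.prod_nsmul]
    simp only [R, Polynomial.eval_mul, Polynomial.eval_C, Polynomial.eval_finsetSum, eval_bP_nat]
    refine congrArg (Bl * ·) ?_
    rw [show (e.map (beta D)).prod = N + 1 by rw [hNdef, sub_add_cancel], add_pow]
    simp only [one_pow, mul_one]
    rw [Finset.sum_congr rfl fun k _ => mul_comm (N ^ k) (m.choose k : B)]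
    refine (Finset.sum_subset (s₂ := range (D + m + 1)) (range_mono (by omega)) fun k _ hk => ?_).trans
      (Finset.sum_subset (range_mono (by omega)) fun k _ hk => ?_).symm
    · rw [Nat.choose_eq_zero_of_lt (by simp at hk; omega), Nat.cast_zero, zero_mul]
    · rw [hN k (by simp at hk; omega), mul_zero]
  have hev := congrArg (Polynomial.evalRingHom (-1 : B)) key
  rw [map_TD] at hev
  simp only [R, Polynomial.coe_evalRingHom, Polynomial.eval_mul, Polynomial.eval_C, Polynomial.eval_finsetSum,
    eval_bP_neg_one] at hev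
  have ha : ∀ i ≤ D, a i = (cI i).eval (-1 : B) := fun i hi => by
    let G : PowerSeries B := ∑ k ∈ range (D + 1), (-F) ^ k
    have hEG : ser e * G = 1 - (-F) ^ (D + 1) := by
      have h2 := mul_neg_geom_sum (-F) (D + 1)
      rw [sub_neg_eq_add, show (1 : PowerSeries B) + F = ser e by rw [hF]; ring] at h2
      exact h2
    have h1 : PowerSeries.X ^ (D + 1) ∣ PowerSeries.mk a * ser e - L :=
      PowerSeries.X_pow_dvd_iff.2 fun k hk => by rw [map_sub, h k (by omega), coeff_ser, sub_self]
    have h2 : PowerSeries.X ^ (D + 1) ∣ (-F) ^ (D + 1) := by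
      rw [neg_pow]; exact (hFk _ (Nat.lt_succ_self D)).mul_left _
    have h3 : PowerSeries.X ^ (D + 1) ∣ PowerSeries.mk a - L * G := by
      rw [show PowerSeries.mk a - L * G =
        PowerSeries.mk a * (-F) ^ (D + 1) + (PowerSeries.mk a * ser e - L) * G by
          linear_combination (- PowerSeries.mk a) * hEG]
      exact dvd_add (h2.mul_left _) (h1.mul_right _)
    have := coeff_dvd h3 hi
    rw [PowerSeries.coeff_mk] at this
    rw [this, Finset.mul_sum, map_sum]
    simp only [cI, Polynomial.eval_finsetSum, Polynomial.eval_mul, eval_bP_neg_one, Polynomial.eval_C]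
    refine Finset.sum_congr rfl fun k _ => ?_
    rw [show L * (-F) ^ k = PowerSeries.C ((-1 : B) ^ k) * (L * F ^ k) by
      rw [neg_pow, map_pow, map_neg, map_one]; ring, PowerSeries.coeff_C_mul]
  have hTD : TD D (fun i => (cI i).eval (-1 : B)) = TD D a := by
    simp only [TD]
    exact congrArg (fun g => MvPolynomial.aeval g (KGr.toddPoly D)) (funext fun i => (ha _ (by omega)).symm)
  rw [hTD] at hev
  rw [hev, mul_assoc]
  have hgeom : (∑ k ∈ range (D + 1), (-1 : B) ^ k * N ^ k) * (1 + N) = 1 := by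
    have h2 := geom_sum_mul_neg (-N) (D + 1)
    rw [sub_neg_eq_add, neg_pow N (D + 1), hN _ (Nat.lt_succ_self D), mul_zero, sub_zero] at h2
    simp only [neg_pow N] at h2
    exact h2
  rw [show (e.map (beta D)).prod = 1 + N by rw [hNdef]; ring, hgeom, mul_one]

/-- The functional equation of the Todd series. -/
theorem beta_two_mul {D : ℕ} {x : B} (hx : x ^ (D + 1) = 0) :
    beta D ((2 : B) * x) * (1 + IsNilpotent.exp (-x)) = 2 * beta D x := by
  let E := PowerSeries.exp ℚ
  let Bp := bernoulli'PowerSeries ℚ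
  have hE : ∀ a b : ℚ, PowerSeries.rescale a E * PowerSeries.rescale b E = PowerSeries.rescale (a + b) E :=
    fun a b => PowerSeries.exp_mul_exp_eq_exp_add a b
  have h11 : E * E = PowerSeries.rescale 2 E := by
    have := hE 1 1
    rw [PowerSeries.rescale_one] at this
    norm_num at this
    exact this
  have hm : E * PowerSeries.rescale (-1) E = 1 := by
    have := hE 1 (-1)
    rw [PowerSeries.rescale_one, add_neg_cancel, PowerSeries.rescale_zero] at this
    simpa [E] using this
  have hb : Bp * (E - 1) = PowerSeries.X * E := bernoulli'PowerSeries_mul_exp_sub_one ℚ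
  have h2 := congrArg (PowerSeries.rescale (2 : ℚ)) hb
  rw [map_mul, map_mul, map_sub, map_one, PowerSeries.rescale_X, ← h11, map_ofNat] at h2
  have key : PowerSeries.rescale 2 Bp * (1 + PowerSeries.rescale (-1) E) = 2 * Bp := by
    have hne : E - 1 ≠ 0 := fun h0 => by
      have := congrArg (PowerSeries.coeff 1) h0
      simp [E, PowerSeries.coeff_exp] at this
    refine mul_right_cancel₀ hne ?_
    linear_combination (PowerSeries.rescale (-1) E) * h2 +
      (PowerSeries.rescale 2 Bp + 2 * PowerSeries.X * E - E * PowerSeries.rescale 2 Bp) * hm - 2 * hb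
  have hsum : ∀ (y : B) (p : PowerSeries ℚ),
      ev D y p = ∑ i ∈ range (D + 1), algebraMap ℚ B (PowerSeries.coeff i p) * y ^ i := fun y p => by
    rw [ev, Polynomial.aeval_def, PowerSeries.eval₂_trunc_eq_sum_range]
  have hres : ∀ (c : ℚ) (p : PowerSeries ℚ),
      ev D x (PowerSeries.rescale c p) = ev D (algebraMap ℚ B c * x) p := fun c p => by
    rw [hsum, hsum]
    refine Finset.sum_congr rfl fun i _ => ?_
    rw [PowerSeries.coeff_rescale, map_mul, map_pow, mul_pow]
    ring
  have hadd : ∀ p q : PowerSeries ℚ, ev D x (p + q) = ev D x p + ev D x q := fun p q => by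
    simp only [hsum, map_add, add_mul, Finset.sum_add_distrib]
  have h := congrArg (ev D x) key
  rw [Groth.L15.ToddTop.ev_mul hx, Groth.L15.ToddTop.ev_mul hx, hres, hadd, hres, Groth.L15.ToddTop.ev_one,
    Groth.L15.ToddTop.ev_todd, Groth.L15.ToddTop.ev_exp,
    Groth.L15.ToddTop.aeval_expTrunc (by rw [mul_pow, hx, mul_zero])] at h
  rw [show ev D x (2 : PowerSeries ℚ) = 2 by
    rw [show (2 : PowerSeries ℚ) = 1 + 1 by norm_num, hadd, Groth.L15.ToddTop.ev_one]; norm_num] at h
  simp only [map_neg, map_one, neg_one_mul, map_ofNat] at h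
  rw [Groth.L15.ToddTop.ev_todd] at h
  exact h

theorem exp_injective {a b : B} (ha : IsNilpotent a) (hb : IsNilpotent b)
    (h : IsNilpotent.exp a = IsNilpotent.exp b) : a = b := by
  have hab : IsNilpotent (a - b) := (Commute.all _ _).isNilpotent_sub ha hb
  have h1 : IsNilpotent.exp (a - b) = 1 := by
    rw [sub_eq_add_neg, IsNilpotent.exp_add_of_commute (Commute.all _ _) ha hb.neg, h, mul_comm]
    exact IsNilpotent.exp_neg_mul_exp_self hb
  obtain ⟨n, hn⟩ := hab
  have hn2 : (a - b) ^ (n + 2) = 0 := pow_eq_zero_of_le (by omega) hn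
  rw [IsNilpotent.exp_eq_sum hn2, Finset.sum_range_succ'] at h1
  simp only [pow_zero, Nat.factorial_zero, Nat.cast_one, inv_one, one_smul, add_eq_right] at h1
  have h2 : (a - b) * (1 + (a - b) * ∑ i ∈ range n, ((i + 2).factorial : ℚ)⁻¹ • (a - b) ^ i) = 0 := by
    rw [← h1, Finset.sum_range_succ', mul_add, Finset.mul_sum, Finset.mul_sum, add_comm]
    congr 1
    · refine Finset.sum_congr rfl fun i _ => ?_
      rw [mul_smul_comm, mul_smul_comm, ← pow_succ', ← pow_succ']
    · simp
  have hu : IsUnit (1 + (a - b) * ∑ i ∈ range n, ((i + 2).factorial : ℚ)⁻¹ • (a - b) ^ i) :=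
    ((Commute.all _ _).isNilpotent_mul_right ⟨n, hn⟩).isUnit_one_add
  rwa [hu.mul_left_eq_zero, sub_eq_zero] at h2

theorem exists_exp_eq {t : B} (ht : IsNilpotent t) : ∃ x : B, IsNilpotent x ∧ IsNilpotent.exp x = 1 + t := by
  obtain ⟨n, hn⟩ := ht
  suffices H : ∀ (j k : ℕ) (s : B), n ≤ k + j → s ∈ Ideal.span {t} ^ (k + 1) →
      ∃ x : B, IsNilpotent x ∧ IsNilpotent.exp x = 1 + s from
    H n 0 t (by omega) (by rw [pow_one]; exact Ideal.mem_span_singleton_self t)
  intro j
  induction j with
  | zero =>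
    intro k s hk hs
    rw [Ideal.span_singleton_pow, Ideal.mem_span_singleton, pow_eq_zero_of_le (by omega) hn, zero_dvd_iff] at hs
    exact ⟨0, IsNilpotent.zero, by rw [IsNilpotent.exp_zero, hs, add_zero]⟩
  | succ j ih =>
    intro k s hk hs
    have hsn : IsNilpotent s := by
      rw [Ideal.span_singleton_pow, Ideal.mem_span_singleton] at hs
      obtain ⟨c, rfl⟩ := hs
      exact (Commute.all _ _).isNilpotent_mul_right (IsNilpotent.pow_of_pos ⟨n, hn⟩ k.succ_ne_zero)
    obtain ⟨N, hN⟩ := hsn.neg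
    have hN2 : (-s) ^ (N + 2) = 0 := pow_eq_zero_of_le (by omega) hN
    let W := ∑ i ∈ range N, ((i + 2).factorial : ℚ)⁻¹ • (-s) ^ i
    have he : IsNilpotent.exp (-s) = 1 - s + s * s * W := by
      rw [IsNilpotent.exp_eq_sum hN2, Finset.sum_range_succ', Finset.sum_range_succ', Finset.mul_sum,
        Finset.sum_congr rfl (g := fun i => s * s * (((i + 2).factorial : ℚ)⁻¹ • (-s) ^ i)) fun i _ => by
          rw [mul_smul_comm, pow_succ, pow_succ]; congr 1; ring]
      simp
      ring
    obtain ⟨x, hx, hxe⟩ := ih (k + 1) ((1 + s) * IsNilpotent.exp (-s) - 1) (by omega) (by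
      rw [he, show (1 + s) * (1 - s + s * s * W) - 1 = s * s * ((1 + s) * W - 1) by ring]
      refine Ideal.mul_mem_right _ _ (Ideal.pow_le_pow_right (show k + 1 + 1 ≤ (k + 1) + (k + 1) by omega) ?_)
      rw [pow_add]
      exact Ideal.mul_mem_mul hs hs)
    refine ⟨s + x, (Commute.all _ _).isNilpotent_add hsn hx, ?_⟩
    rw [IsNilpotent.exp_add_of_commute (Commute.all _ _) hsn hx, hxe, add_sub_cancel,
      mul_left_comm, mul_comm _ (IsNilpotent.exp (-s)), IsNilpotent.exp_neg_mul_exp_self hsn, mul_one]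

end Groth.L12.RR.GRR
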